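import Cfsg.Agent.BenderWorld.Defs
import Cfsg.Agent.SEmbed.Swap
import Cfsg.Agent.Coprime.Action

/-!
# Tools for double transitivity: pair stabilizers, their Sylow subgroups and swappers
-/

set_option autoImplicit false
set_option linter.style.haveILetI false

namespace CfsgLib.BenderWorld

open CfsgLib.Small CfsgLib.SEmbed Subgroup

variable {G : Type*} [Group G] {Ω : Type*} [MulAction G Ω] {q : ℕ}

theorem mul_self_eq_one_of_invMap {x y : Ω} {i : G} (hi : i ∈ invMap (G := G) x y) : i * i = 1 :=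
  mul_self_of_orderOf_two hi.1

variable [Finite G] [Fact q.Prime]

/-- A `q`-subgroup of `K`, maximal there, is a Sylow subgroup of `K`. -/
theorem card_eq_of_maximal {K R : Subgroup G} (hRK : R ≤ K) (hR : IsPGroup q R)
    (hmax : ∀ R' : Subgroup G, IsPGroup q R' → R' ≤ K → R ≤ R' → R' = R) :
    Nat.card R = q ^ (Nat.card K).factorization q := by
  let S : Sylow q K :=
    ⟨R.subgroupOf K, hR.comap_subtype, fun {Q} hQ hle => by
      have h1 := hmax (Q.map K.subtype) (hQ.map _) (map_subtype_le _) (fun r hr =>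
        ⟨⟨r, hRK hr⟩, hle hr, rfl⟩)
      refine le_antisymm (fun x hx => ?_) hle
      show (x : G) ∈ R
      rw [← h1]
      exact mem_map_of_mem K.subtype hx⟩
  rw [← S.card_eq_multiplicity]
  exact (Nat.card_congr (subgroupOfEquivOfLe hRK).toEquiv).symm

/-- A `q`-subgroup of `K` of full order is maximal there. -/
theorem eq_of_card_eq {K R R' : Subgroup G} (hR' : IsPGroup q R') (hR'K : R' ≤ K) (hle : R ≤ R')
    (hcard : Nat.card R = q ^ (Nat.card K).factorization q) : R' = R := by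
  obtain ⟨n, hn⟩ := IsPGroup.iff_card.1 hR'
  have hdvd : q ^ n ∣ Nat.card K := hn ▸ card_dvd_of_le hR'K
  have := ((Fact.out : q.Prime).pow_dvd_iff_le_factorization Nat.card_pos.ne').1 hdvd
  refine (eq_of_le_of_card_ge hle ?_).symm
  rw [hn, hcard]
  exact Nat.pow_le_pow_right (Fact.out : q.Prime).pos this

theorem exists_maximal_le {K Q : Subgroup G} (hQ : IsPGroup q Q) (hQK : Q ≤ K) :
    ∃ R : Subgroup G, Q ≤ R ∧ R ≤ K ∧ IsPGroup q R ∧
      Nat.card R = q ^ (Nat.card K).factorization q := by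
  obtain ⟨R, hQR, ⟨hR, hRK⟩, hmax⟩ :=
    (Set.toFinite {R : Subgroup G | IsPGroup q R ∧ R ≤ K}).exists_le_maximal ⟨hQ, hQK⟩
  exact ⟨R, hQR, hRK, hR, card_eq_of_maximal hRK hR fun R' h1 h2 h3 =>
    le_antisymm (hmax ⟨h1, h2⟩ h3) h3⟩

/-- Two Sylow subgroups of `K` are conjugate in `K`. -/
theorem exists_conj_of_card {K R R' : Subgroup G} (hR : IsPGroup q R) (hR' : IsPGroup q R')
    (hRK : R ≤ K) (hR'K : R' ≤ K) (hc : Nat.card R = q ^ (Nat.card K).factorization q)
    (hc' : Nat.card R' = q ^ (Nat.card K).factorization q) :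
    ∃ k ∈ K, R.map (MulAut.conj k).toMonoidHom = R' := by
  obtain ⟨S, hS⟩ := (hR.comap_subtype (K := K)).exists_le_sylow
  obtain ⟨S', hS'⟩ := (hR'.comap_subtype (K := K)).exists_le_sylow
  have h1 : (S : Subgroup K).map K.subtype = R := eq_of_card_eq (S.2.map _) (map_subtype_le _)
    (fun r hr => ⟨⟨r, hRK hr⟩, hS hr, rfl⟩) hc
  have h2 : (S' : Subgroup K).map K.subtype = R' := eq_of_card_eq (S'.2.map _) (map_subtype_le _)
    (fun r hr => ⟨⟨r, hR'K hr⟩, hS' hr, rfl⟩) hc'
  obtain ⟨k, hk, hkS⟩ := CfsgLib.Coprime.exists_conj_map_sylow S S'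
  refine ⟨k, hk, ?_⟩
  rw [← h1, ← h2, ← hkS]
  rfl

/-- A proper `q`-subgroup grows in its normaliser. -/
theorem exists_normalizer_not_mem {R P : Subgroup G} (hP : IsPGroup q P) (hRP : R ≤ P) (hne : R ≠ P) :
    ∃ x ∈ P, x ∈ normalizer (R : Set G) ∧ x ∉ R := by
  have hlt : R.subgroupOf P < ⊤ := lt_top_iff_ne_top.2 fun e =>
    hne (le_antisymm hRP (Subgroup.subgroupOf_eq_top.1 e))
  haveI : Group.IsNilpotent P := hP.isNilpotent
  obtain ⟨x, hxN, hxR⟩ := SetLike.exists_of_lt (normalizerCondition_of_isNilpotent (G := P) _ hlt)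
  rw [← subgroupOf_normalizer_eq hRP] at hxN
  exact ⟨x, x.2, hxN, hxR⟩

omit [Finite G] [Fact q.Prime] in
theorem smul_mem_of_zpowers {s : Set Ω} {i : G} (hi : orderOf i = 2) (hinv : ∀ x ∈ s, i • x ∈ s)
    (g : Subgroup.zpowers i) {x : Ω} (hx : x ∈ s) : (g : G) • x ∈ s := by
  obtain ⟨g, hg⟩ := g
  have h2 : i ^ (2 : ℤ) = 1 := by
    rw [show (2 : ℤ) = ((2 : ℕ) : ℤ) from rfl, zpow_natCast, ← hi, pow_orderOf_eq_one]
  obtain ⟨k, rfl⟩ := mem_zpowers_iff.1 hg
  show i ^ k • x ∈ s
  rcases Int.even_or_odd k with ⟨j, rfl⟩ | ⟨j, rfl⟩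
  · rw [← two_mul, zpow_mul, h2, one_zpow, one_smul]; exact hx
  · rw [zpow_add, zpow_mul, h2, one_zpow, one_mul, zpow_one]; exact hinv x hx

variable (h : UniqueFix G Ω)
include h

omit [Fact q.Prime] in
/-- An involution leaving a finite set invariant fixes a point of it exactly if it is odd. -/
theorem exists_fix_iff_odd {s : Set Ω} {i : G} (hi : orderOf i = 2) (hinv : ∀ x ∈ s, i • x ∈ s) :
    (∃ x ∈ s, i • x = x) ↔ Odd (Nat.card s) := by
  haveI := finite_points h
  haveI : Fact (Nat.Prime 2) := ⟨Nat.prime_two⟩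
  letI : MulAction (zpowers i) s := {
    smul := fun g x => ⟨(g : G) • x.1, smul_mem_of_zpowers hi hinv g x.2⟩
    one_smul := fun x => Subtype.ext (one_smul G x.1)
    mul_smul := fun g g' x => Subtype.ext (mul_smul (g : G) (g' : G) x.1) }
  have hp : IsPGroup 2 (zpowers i) :=
    IsPGroup.of_card (n := 1) (by rw [Nat.card_zpowers, hi, pow_one])
  constructor
  · rintro ⟨x, hx, hix⟩
    have hmod := hp.card_modEq_card_fixedPoints s
    have hone : Nat.card (MulAction.fixedPoints (zpowers i) s) = 1 := by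
      rw [Nat.card_eq_one_iff_unique]
      refine ⟨⟨fun y z => ?_⟩, ⟨⟨⟨x, hx⟩, fun g => Subtype.ext ?_⟩⟩⟩
      · have hy := congrArg Subtype.val (y.2 ⟨i, mem_zpowers i⟩)
        have hz := congrArg Subtype.val (z.2 ⟨i, mem_zpowers i⟩)
        exact Subtype.ext (Subtype.ext (h.unique i hi _ _ hy hz))
      · obtain ⟨g, hg⟩ := g
        obtain ⟨k, rfl⟩ := mem_zpowers_iff.1 hg
        exact (MulAction.mem_stabilizer_iff).1 (zpow_mem (show i ∈ MulAction.stabilizer G x from hix) k)
    rw [hone] at hmod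
    exact Nat.odd_iff.2 hmod
  · intro hodd
    obtain ⟨x, hx⟩ := hp.nonempty_fixed_point_of_prime_not_dvd_card s hodd.not_two_dvd_nat
    exact ⟨x.1, x.2, congrArg Subtype.val (hx ⟨i, mem_zpowers i⟩)⟩

/-- `|Fix Q| = n mod q`. -/
theorem card_fixSet_modEq {Q : Subgroup G} (hQ : IsPGroup q Q) :
    Nat.card Ω ≡ Nat.card (fixSet (Ω := Ω) Q) [MOD q] := by
  haveI := finite_points h
  have e : MulAction.fixedPoints Q Ω = fixSet (Ω := Ω) Q := by
    ext x
    exact ⟨fun hx r hr => hx ⟨r, hr⟩, fun hx r => hx r r.2⟩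
  exact e ▸ hQ.card_modEq_card_fixedPoints Ω

omit [Finite G] [Fact q.Prime] h in
theorem conj_mem_pairStab {x y : Ω} {w d : G} (hw : w ∈ invMap (G := G) x y)
    (hd : d ∈ pairStab G x y) : w * d * w⁻¹ ∈ pairStab G x y := by
  obtain ⟨hdx, hdy⟩ := mem_pairStab.1 hd
  rw [inv_eq_self_of_orderOf_two hw.1]
  exact mem_pairStab.2 ⟨by rw [mul_smul, mul_smul, hw.2, hdy, smul_back hw.1 hw.2],
    by rw [mul_smul, mul_smul, smul_back hw.1 hw.2, hdx, hw.2]⟩

/-- A `w`-invariant `q`-subgroup of a pair stabilizer lies in a `w`-invariant Sylow subgroup of it,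
for the swapper `w`. -/
theorem exists_invariant_sylow_pair {x y : Ω} (hxy : x ≠ y) {w : G} (hw : w ∈ invMap (G := G) x y)
    {R : Subgroup G} (hR : IsPGroup q R) (hRD : R ≤ pairStab G x y)
    (hwR : w ∈ normalizer (R : Set G)) :
    ∃ T : Subgroup G, R ≤ T ∧ T ≤ pairStab G x y ∧ IsPGroup q T ∧ w ∈ normalizer (T : Set G) ∧
      Nat.card T = q ^ (Nat.card (pairStab G x y)).factorization q := by
  set D := pairStab G x y with hD
  have hwD : zpowers w ≤ normalizer (D : Set G) := by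
    rw [zpowers_le, mem_normalizer_iff]
    refine fun d => ⟨conj_mem_pairStab hw, fun hd => ?_⟩
    have h1 := conj_mem_pairStab hw hd
    rwa [inv_eq_self_of_orderOf_two hw.1, show w * (w * d * w) * w = (w * w) * d * (w * w) by group,
      mul_self_eq_one_of_invMap hw, one_mul, mul_one] at h1
  obtain ⟨P, hRP, hP⟩ := CfsgLib.Coprime.exists_invariant_sylow_ge hwD
    (by rw [Nat.card_zpowers, hw.1]; exact Nat.coprime_two_left.2 (odd_pairStab h hxy))
    (Or.inl (Group.isSolvable_of_comm fun a b => mul_comm' a b)) hRD hR (zpowers_le.2 hwR)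
  refine ⟨(P : Subgroup D).map D.subtype, hRP, map_subtype_le _, P.2.map _, zpowers_le.1 hP, ?_⟩
  rw [card_map_of_injective D.subtype_injective]
  exact P.card_eq_multiplicity

/-- A Sylow subgroup of a pair stabilizer is normalised by a swapper. -/
theorem exists_swapper_normalizer {x y : Ω} (hxy : x ≠ y) {T : Subgroup G} (hT : IsPGroup q T)
    (hTD : T ≤ pairStab G x y)
    (hcard : Nat.card T = q ^ (Nat.card (pairStab G x y)).factorization q) :
    ∃ u ∈ normalizer (T : Set G), u ∈ invMap (G := G) x y := by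
  obtain ⟨s, hs, hsx⟩ := h.exists_inv x
  obtain ⟨t, ht, hty⟩ := h.exists_inv y
  obtain ⟨w, hw, -⟩ := exists_interchange h hs ht hsx hty hxy
  obtain ⟨T₀, -, hT₀D, hT₀, hwT₀, hc₀⟩ := exists_invariant_sylow_pair (q := q) h hxy hw
    IsPGroup.of_bot bot_le (mem_normalizer_iff.2 fun z => by simp)
  obtain ⟨d, hd, hdT⟩ := exists_conj_of_card hT₀ hT hT₀D hTD hc₀ hcard
  refine ⟨d * w * d⁻¹, ?_, conj_mem_invMap_pair hd hw⟩
  have := le_normalizer_map (H := T₀) (MulAut.conj d).toMonoidHom ⟨w, hwT₀, rfl⟩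
  rwa [hdT] at this

omit [Fact q.Prime] in
/-- `|D| = m |C_D(w)|`. -/
theorem card_pairStab_eq {x y : Ω} (hxy : x ≠ y) {w : G}
    (hw : w ∈ invMap (G := G) x y ∨ w ∈ invMap (G := G) x x) :
    Nat.card (pairStab G x y) =
      numInv G x * Nat.card ↥(pairStab G x y ⊓ centralizer ({w} : Set G)) := by
  set D := pairStab G x y with hD
  obtain ⟨z, hwz, htr, hcard, hz⟩ : ∃ z, w ∈ invMap (G := G) x z ∧
      (∀ i ∈ invMap (G := G) x z, ∃ d ∈ D, d * w * d⁻¹ = i) ∧
      Nat.card (invMap (G := G) x z) = numInv G x ∧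
      ∀ d ∈ D, d • z = z := by
    rcases hw with hw | hw
    · exact ⟨y, hw, fun i hi => exists_conj_swap h hxy hw hi, card_invMap_eq h hxy,
        fun d hd => (mem_pairStab.1 hd).2⟩
    · exact ⟨x, hw, fun i hi => exists_conj_fix h hxy hw hi, rfl, fun d hd => (mem_pairStab.1 hd).1⟩
  have hmem : ∀ d ∈ D, d * w * d⁻¹ ∈ invMap (G := G) x z := fun d hd =>
    ⟨by rw [orderOf_conj_eq]; exact hwz.1, by
      rw [mul_smul, mul_smul, inv_smul_eq_iff.2 (mem_pairStab.1 hd).1.symm, hwz.2, hz d hd]⟩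
  let f : D ⧸ (centralizer ({w} : Set G)).subgroupOf D → invMap (G := G) x z :=
    Quotient.lift (fun d => ⟨(d : G) * w * (d : G)⁻¹, hmem d d.2⟩) fun d d' hdd => Subtype.ext (by
      have hc := mem_centralizer_singleton_iff.1 (mem_subgroupOf.1 (QuotientGroup.leftRel_apply.1 hdd))
      show (d : G) * w * (d : G)⁻¹ = (d' : G) * w * (d' : G)⁻¹
      rw [coe_mul, coe_inv] at hc
      calc (d : G) * w * (d : G)⁻¹ = (d : G) * ((w * ((d : G)⁻¹ * d'))) * (d' : G)⁻¹ := by group
        _ = _ := by rw [← hc]; group)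
  have hf : Function.Bijective f := by
    refine ⟨fun a b => ?_, fun i => ?_⟩
    · induction a using Quotient.inductionOn with
      | h d =>
        induction b using Quotient.inductionOn with
        | h d' =>
          intro hab
          have e : (d : G) * w * (d : G)⁻¹ = (d' : G) * w * (d' : G)⁻¹ := congrArg Subtype.val hab
          refine Quotient.sound (QuotientGroup.leftRel_apply.2 (mem_subgroupOf.2 ?_))
          rw [mem_centralizer_singleton_iff, coe_mul, coe_inv]
          calc (d : G)⁻¹ * d' * w = (d : G)⁻¹ * ((d' : G) * w * (d' : G)⁻¹) * d' := by group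
            _ = w * ((d : G)⁻¹ * d') := by rw [← e]; group
    · obtain ⟨d, hd, hdi⟩ := htr i.1 i.2
      exact ⟨Quotient.mk'' ⟨d, hd⟩, Subtype.ext hdi⟩
  rw [← hcard, ← Nat.card_eq_of_bijective f hf, ← Subgroup.index_eq_card,
    show Nat.card ↥(D ⊓ centralizer ({w} : Set G)) = Nat.card ((centralizer ({w} : Set G)).subgroupOf D) by
      rw [inf_comm, ← inf_subgroupOf_right]
      exact (Nat.card_congr (subgroupOfEquivOfLe inf_le_right).toEquiv).symm]
  exact (Subgroup.index_mul_card _).symm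

omit [Fact q.Prime] in
/-- All involution centralizers have the same order. -/
theorem card_centralizer_eq [Nontrivial Ω] {s t : G} (hs : orderOf s = 2) (ht : orderOf t = 2) :
    Nat.card ↥(centralizer ({s} : Set G)) = Nat.card ↥(centralizer ({t} : Set G)) := by
  obtain ⟨g, hg⟩ := isConj_iff.1 (isConj_invol h hs ht)
  refine Nat.card_congr ((MulAut.conj g).toEquiv.subtypeEquiv fun c => ?_)
  show c ∈ centralizer ({s} : Set G) ↔ g * c * g⁻¹ ∈ centralizer ({t} : Set G)
  rw [mem_centralizer_singleton_iff, mem_centralizer_singleton_iff, ← hg]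
  constructor
  · intro hc
    calc g * c * g⁻¹ * (g * s * g⁻¹) = g * (c * s) * g⁻¹ := by group
      _ = _ := by rw [hc]; group
  · intro hc
    have : g * (c * s) * g⁻¹ = g * (s * c) * g⁻¹ := by
      calc g * (c * s) * g⁻¹ = g * c * g⁻¹ * (g * s * g⁻¹) := by group
        _ = _ := by rw [hc]; group
    exact mul_left_cancel (mul_right_cancel this)

end CfsgLib.BenderWorld
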