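import Cfsg.Agent.BenderWorld.TwoTransitive.TwoPoint

/-!
# Route 8, steps 2 and 3: centralisers of `q`-elements centralised by involutions, no real `q`-elements
-/

set_option autoImplicit false
set_option linter.style.haveILetI false

namespace CfsgLib.BenderWorld

open CfsgLib.Small CfsgLib.SEmbed Subgroup

variable {G : Type*} [Group G] [Finite G] {Ω : Type*} [MulAction G Ω] {q : ℕ} [hq : Fact q.Prime]

/-- A Sylow `q`-subgroup of `G` fixing `e`. -/
theorem Good.exists_sylow_at (h : Good G Ω q) (e : Ω) :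
    ∃ P : Sylow q G, (P : Subgroup G) ≤ MulAction.stabilizer G e := by
  obtain ⟨a, b, -, hF⟩ := h.sylow_fix (default : Sylow q G)
  obtain ⟨g, hg⟩ := h.world.uf.transitive a e
  refine ⟨g • default, fun x hx => ?_⟩
  rw [Sylow.coe_subgroup_smul] at hx
  obtain ⟨p, hp, rfl⟩ := hx
  show (g * p * g⁻¹) • e = e
  rw [← hg, smul_smul, inv_mul_cancel_right, mul_smul, hF.ge (Or.inl rfl) p hp]

/-- A `w`-invariant `q`-group fixing `y` and containing a Sylow subgroup of `C(w)` lies in a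
`w`-invariant Sylow subgroup of `G` fixing exactly `y` and `w y`. -/
theorem Good.exists_full (h : Good G Ω q) {w : G} (hw : orderOf w = 2) {R Q : Subgroup G}
    (hR : R ≤ centralizer ({w} : Set G))
    (hcard : Nat.card R = q ^ (Nat.card ↥(centralizer ({w} : Set G))).factorization q)
    (hRQ : R ≤ Q) (hQ : IsPGroup q Q) (hwQ : w ∈ normalizer (Q : Set G)) {y : Ω}
    (hy : y ∈ fixSet (Ω := Ω) Q) (hwy : w • y ≠ y) :
    ∃ T : Subgroup G, Q ≤ T ∧ IsPGroup q T ∧ w ∈ normalizer (T : Set G) ∧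
      fixSet (Ω := Ω) T = {y, w • y} ∧ T ⊓ centralizer ({w} : Set G) = R ∧
      Nat.card T = q ^ (Nat.card (pairStab G y (w • y))).factorization q := by
  have hu := h.world.uf
  haveI := h.world.nontrivial
  have hw' : w ∈ invMap (G := G) y (w • y) := ⟨hw, rfl⟩
  have hQD : Q ≤ pairStab G y (w • y) := fun r hr => mem_pairStab.2 ⟨hy r hr, by
    have h1 := hy _ ((mem_normalizer_iff''.1 hwQ r).1 hr)
    rw [mul_smul, mul_smul, inv_smul_eq_iff] at h1
    exact h1⟩
  obtain ⟨T, hQT, hTD, hT, hwT, hcT⟩ := exists_invariant_sylow_pair (q := q) hu hwy.symm hw' hQ hQD hwQ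
  -- compare with a Sylow subgroup of `G`
  obtain ⟨P, hPT⟩ := hT.exists_le_sylow
  obtain ⟨a, b, hab, hF⟩ := h.sylow_fix P
  obtain ⟨s, hs⟩ := hu.exists_inv a
  have hP' : Nat.card (P : Subgroup G) ≤ q ^ (Nat.card (pairStab G a b)).factorization q := by
    obtain ⟨R', hPR', -, hR', hc⟩ := exists_maximal_le P.2
      (le_pairStab_of_mem (a := a) (y := b) (hF.ge (Or.inl rfl)) (hF.ge (Or.inr rfl)))
    exact hc ▸ Nat.le_of_dvd Nat.card_pos (card_dvd_of_le hPR')
  have hle : (Nat.card (pairStab G a b)).factorization q ≤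
      (Nat.card (pairStab G y (w • y))).factorization q := by
    rw [card_pairStab_eq hu hab (Or.inr hs), card_pairStab_eq hu hwy.symm (Or.inl hw'),
      show numInv G y = numInv G a from card_invMap_self hu y a,
      Nat.factorization_mul (fun e => ?_) Nat.card_pos.ne', Nat.factorization_mul (fun e => ?_)
      Nat.card_pos.ne', Finsupp.add_apply, Finsupp.add_apply]
    · refine Nat.add_le_add_left ?_ _
      calc (Nat.card ↥(pairStab G a b ⊓ centralizer ({s} : Set G))).factorization q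
          ≤ (Nat.card ↥(centralizer ({s} : Set G))).factorization q :=
            (Nat.factorization_le_iff_dvd Nat.card_pos.ne' Nat.card_pos.ne').2
              (card_dvd_of_le inf_le_right) q
        _ = (Nat.card ↥(centralizer ({w} : Set G))).factorization q := by
            rw [card_centralizer_eq hu hs.1 hw]
        _ ≤ _ := by
            have h1 := card_dvd_of_le (le_inf (hRQ.trans hQD) hR :
              R ≤ pairStab G y (w • y) ⊓ centralizer ({w} : Set G))
            rw [hcard] at h1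
            exact (hq.out.pow_dvd_iff_le_factorization Nat.card_pos.ne').1 h1
    all_goals
      have h0 := (odd_pairStab hu hab).pos
      rw [card_pairStab_eq hu hab (Or.inr hs), e, zero_mul] at h0
      exact lt_irrefl 0 h0
  have hTP : T = (P : Subgroup G) := eq_of_le_of_card_ge hPT
    ((hP'.trans (Nat.pow_le_pow_right hq.out.pos hle)).trans hcT.ge)
  refine ⟨T, hQT, hT, hwT, ?_, ?_, hcT⟩
  · have hsub : ({y, w • y} : Set Ω) ⊆ fixSet (Ω := Ω) T := by
      rintro z (rfl | rfl)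
      exacts [fun r hr => (mem_pairStab.1 (hTD hr)).1, fun r hr => (mem_pairStab.1 (hTD hr)).2]
    rw [hTP] at hsub ⊢
    rw [hF] at hsub ⊢
    have h1 := hsub (Or.inl rfl : y ∈ ({y, w • y} : Set Ω))
    have h2 := hsub (Or.inr rfl : w • y ∈ ({y, w • y} : Set Ω))
    rcases h1 with rfl | rfl <;> rcases h2 with e | e
    · exact absurd e hwy
    · rw [Set.mem_singleton_iff] at e; rw [e]
    · rw [e, Set.pair_comm]
    · exact absurd e hwy
  · exact eq_of_card_eq (hT.to_le inf_le_left) inf_le_right (le_inf (hRQ.trans hQT) hR) hcard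

/-- **The climb**: a noncentralised invariant subgroup at the centre drags the whole group there. -/
theorem Good.climb_fix (h : Good G Ω q) {w : G} {e : Ω} (hw : w ∈ invMap (G := G) e e)
    {T X : Subgroup G} (hT : IsPGroup q T) (hwT : w ∈ normalizer (T : Set G)) (hXT : X ≤ T)
    (hwX : w ∈ normalizer (X : Set G)) (hX : e ∈ fixSet (Ω := Ω) X) (hne : ∃ r ∈ X, ¬ Commute r w) :
    e ∈ fixSet (Ω := Ω) T := by
  obtain ⟨Y, hXY, ⟨hYT, hwY, hY⟩, hmax⟩ := (Set.toFinite {Y : Subgroup G |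
    Y ≤ T ∧ w ∈ normalizer (Y : Set G) ∧ e ∈ fixSet (Ω := Ω) Y}).exists_le_maximal ⟨hXT, hwX, hX⟩
  by_cases hYe : Y = T
  · exact hYe ▸ hY
  exfalso
  obtain ⟨r, hr, hrw⟩ := hne
  have hN : ∀ g ∈ normalizer (Y : Set G), g • e = e := by
    by_contra hmov
    push Not at hmov
    exact hrw (h.commute_of_moves (hT.to_le hYT) hw hwY hY hmov r (hXY hr))
  obtain ⟨x, hxT, hxN, hxY⟩ := exists_normalizer_not_mem hT hYT hYe
  refine hxY (hmax (y := T ⊓ normalizer (Y : Set G)) ⟨inf_le_left, ?_, fun g hg => hN g hg.2⟩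
    (le_inf hYT le_normalizer) ⟨hxT, hxN⟩)
  exact inf_normalizer_le_normalizer_inf ⟨hwT, le_normalizer hwY⟩

/-- **Lemma R**: the normaliser of a nontrivial Sylow subgroup of `C(w)` is a local with a four group. -/
theorem Good.isR2 (h : Good G Ω q) {w : G} {e : Ω} (hw : w ∈ invMap (G := G) e e) {R : Subgroup G}
    (hR : R ≤ centralizer ({w} : Set G)) (hRp : IsPGroup q R)
    (hcard : Nat.card R = q ^ (Nat.card ↥(centralizer ({w} : Set G))).factorization q) (hne : R ≠ ⊥) :
    normalizer (R : Set G) ≠ ⊤ ∧ IsR2 (normalizer (R : Set G)) e ∧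
      ∃ g ∈ normalizer (R : Set G), g • e ≠ e := by
  have hu := h.world.uf
  haveI := h.world.simple
  set M := normalizer (R : Set G) with hM
  have hwM : w ∈ M := centralizer_le_normalizer _ (mem_centralizer_iff.2 fun r hr =>
    mem_centralizer_singleton_iff.1 (hR hr))
  have hRe : ∀ r ∈ R, r • e = e := fun r hr =>
    commute_fix hu hw.1 (mem_centralizer_singleton_iff.1 (hR hr)) hw.2
  have hMtop : M ≠ ⊤ := by
    intro htop
    haveI := normalizer_eq_top_iff.1 htop
    rcases IsSimpleGroup.eq_bot_or_eq_top_of_normal R inferInstance with h0 | h0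
    · exact hne h0
    · have hdvd := Subgroup.orderOf_dvd_natCard R (show w ∈ R from h0 ▸ mem_top w)
      rw [hw.1] at hdvd
      exact (h.odd_card hRp).not_two_dvd_nat hdvd
  have hother : ∀ Q : Subgroup G, IsPGroup q Q → ∃ y ∈ fixSet (Ω := Ω) Q, w • y ≠ y ∧ y ≠ e := by
    intro Q hQ
    obtain ⟨x, y, hxy, hx, hy⟩ := h.exists_two_fixed hQ
    by_cases hxe : x = e
    · subst hxe
      exact ⟨y, hy, fun e' => hxy (hu.unique w hw.1 _ _ hw.2 e'), hxy.symm⟩
    · exact ⟨x, hx, fun e' => hxe (hu.unique w hw.1 _ _ e' hw.2), hxe⟩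
  have hnot : ∀ (T : Subgroup G) (y : Ω), fixSet (Ω := Ω) T = {y, w • y} → y ≠ e →
      e ∉ fixSet (Ω := Ω) T := by
    intro T y hF hye he
    rcases hF.le he with h1 | h1
    · exact hye h1.symm
    · exact hye (smul_left_cancel w (hw.2.trans h1)).symm
  have hmov : ∃ g ∈ M, g • e ≠ e := by
    by_contra hall
    push Not at hall
    obtain ⟨y, hy, hwy, hye⟩ := hother R hRp
    obtain ⟨T, hRT, hT, hwT, hF, hTC, hcT⟩ := h.exists_full hw.1 hR hcard le_rfl hRp hwM hy hwy
    have hne' : R ≠ T := fun heq => h.not_centralised hwy.symm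
      (fun r hr => mem_pairStab.2 ⟨hF.ge (Or.inl rfl) r hr, hF.ge (Or.inr rfl) r hr⟩) hcT
      (Or.inl ⟨hw.1, rfl⟩) (fun r hr => mem_centralizer_singleton_iff.1 (hR (heq ▸ hr)))
    obtain ⟨x, hxT, hxN, hxR⟩ := exists_normalizer_not_mem hT hRT hne'
    refine hnot T y hF hye (h.climb_fix hw hT hwT (X := T ⊓ M) inf_le_left
      (inf_normalizer_le_normalizer_inf ⟨hwT, le_normalizer hwM⟩) (fun g hg => hall g hg.2)
      ⟨x, ⟨hxT, hxN⟩, fun hc => hxR (hTC.le ⟨hxT, mem_centralizer_singleton_iff.2 hc.eq⟩)⟩)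
  refine ⟨hMtop, ?_, hmov⟩
  rcases h.world.ih M hMtop e ⟨w, hwM, hw.1, hw.2⟩ hmov with h1 | h2
  swap
  · exact h2
  exfalso
  set L := M ⊓ MulAction.stabilizer G e with hL
  have hwL : w ∈ L := ⟨hwM, hw.2⟩
  -- `w` is isolated in `L`
  have hiso : Cfsg.IsIsolatedInvolution (⟨w, hwL⟩ : L) := by
    refine ⟨by rw [Subgroup.orderOf_mk, hw.1], fun g hg => Subtype.ext ?_⟩
    show (g : G) * w * (g : G)⁻¹ = w
    obtain ⟨o, ho, c, -, hc, hgoc⟩ := h1 w hwM hw.1 g g.2.1
    have hcomm : Commute w ((g : G) * w * (g : G)⁻¹) := congrArg Subtype.val hg.eq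
    have he : (g : G) * w * (g : G)⁻¹ = o * w * o⁻¹ := by
      rw [hgoc]
      calc o * c * w * (o * c)⁻¹ = o * (c * w) * c⁻¹ * o⁻¹ := by group
        _ = _ := by rw [hc.eq]; group
    rw [he] at hcomm ⊢
    set w' := o * w * o⁻¹ with hw'
    have hmem : w * w' ∈ coreIn M := by
      rw [hw', show w * (o * w * o⁻¹) = (w * o * w⁻¹) * (w * w * o⁻¹) by group,
        mul_self_of_orderOf_two hw.1, one_mul]
      refine mul_mem ?_ (inv_mem ho)
      obtain ⟨o', ho', rfl⟩ := ho
      exact ⟨⟨w, hwM⟩ * o' * ⟨w, hwM⟩⁻¹,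
        (inferInstance : (Cfsg.oddCore M).Normal).conj_mem o' ho' _, rfl⟩
    have hodd : Odd (Nat.card (coreIn M)) := by
      rw [coreIn, card_map_of_injective M.subtype_injective]
      exact CfsgLib.TwoGroups.odd_card_oddCore
    have hsq : (w * w') ^ 2 = 1 := by
      rw [hcomm.mul_pow, sq, sq, mul_self_of_orderOf_two hw.1, one_mul, hw',
        show o * w * o⁻¹ * (o * w * o⁻¹) = o * (w * w) * o⁻¹ by group,
        mul_self_of_orderOf_two hw.1]
      group
    have h11 : w * w' = 1 := by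
      refine orderOf_eq_one_iff.1 (Nat.eq_one_of_dvd_coprimes (Nat.coprime_two_left.2 hodd)
        (orderOf_dvd_of_pow_eq_one hsq) (Subgroup.orderOf_dvd_natCard _ hmem))
    exact ((eq_inv_of_mul_eq_one_right h11).trans (inv_eq_self_of_orderOf_two hw.1))
  have hRL : R ≤ L := le_inf le_normalizer hRe
  have hwR' : (⟨w, hwL⟩ : L) ∈ normalizer (R.subgroupOf L : Set L) :=
    mem_normalizer_iff.2 fun z => mem_normalizer_iff.1 hwM z
  obtain ⟨Q, hRQ, hQmax⟩ := (Set.toFinite {Q : Subgroup L | IsPGroup q Q ∧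
    (⟨w, hwL⟩ : L) ∈ normalizer (Q : Set L)}).exists_le_maximal
    ⟨hRp.comap_subtype (K := L), hwR'⟩
  obtain ⟨S, hS⟩ := CfsgLib.TwoGroups.exists_sylow_eq_of_maximal_invariant hiso hQmax.1.1 hQmax.1.2
    fun Q' h1 h2 h3 => le_antisymm (hQmax.2 ⟨h1, h2⟩ h3) h3
  set S' := Q.map L.subtype with hS'
  have hS'p : IsPGroup q S' := hQmax.1.1.map _
  have hwS' : w ∈ normalizer (S' : Set G) := le_normalizer_map L.subtype ⟨⟨w, hwL⟩, hQmax.1.2, rfl⟩
  have hRS' : R ≤ S' := fun r hr => ⟨⟨r, hRL hr⟩, hRQ hr, rfl⟩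
  have hS'L : S' ≤ L := map_subtype_le _
  have hcS : ∀ r ∈ S', Commute r w := by
    intro r hr
    by_contra hrw
    obtain ⟨y, hy, hwy, hye⟩ := hother S' hS'p
    obtain ⟨T, hST, hT, hwT, hF, -, -⟩ := h.exists_full hw.1 hR hcard hRS' hS'p hwS' hy hwy
    exact hnot T y hF hye (h.climb_fix hw hT hwT hST hwS' (fun g hg => (hS'L hg).2) ⟨r, hr, hrw⟩)
  have hS'R : S' = R := eq_of_card_eq hS'p (fun r hr => mem_centralizer_singleton_iff.2 (hcS r hr).eq)
    hRS' hcard
  -- but a Sylow subgroup of `G_e` above `R` is larger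
  obtain ⟨P, hP⟩ := h.exists_sylow_at e
  obtain ⟨P', hRP', hP'e, hP'p, hP'c⟩ :=
    exists_maximal_le (K := MulAction.stabilizer G e) hRp hRe
  have hne' : R ≠ P' := by
    intro heq
    obtain ⟨a, b, hab, hF⟩ := h.sylow_fix P
    obtain ⟨y, hy, hwy, hye⟩ := hother R hRp
    obtain ⟨T, hRT, hT, -, hFT, -, hcT⟩ := h.exists_full hw.1 hR hcard le_rfl hRp hwM hy hwy
    have h1 : Nat.card (P : Subgroup G) ≤ Nat.card R := by
      rw [heq, hP'c]
      obtain ⟨n, hn⟩ := IsPGroup.iff_card.1 P.2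
      rw [hn]
      exact Nat.pow_le_pow_right hq.out.pos
        ((hq.out.pow_dvd_iff_le_factorization Nat.card_pos.ne').1 (hn ▸ card_dvd_of_le hP))
    obtain ⟨P₂, hP₂⟩ := hT.exists_le_sylow
    have h2 : Nat.card T ≤ Nat.card R :=
      ((Nat.le_of_dvd Nat.card_pos (card_dvd_of_le hP₂)).trans
        (Nat.card_congr (Sylow.equiv P₂ P).toEquiv).le).trans h1
    exact hnot T y hFT hye (eq_of_le_of_card_ge hRT h2 ▸ hRe)
  obtain ⟨x, hxP, hxN, hxR⟩ := exists_normalizer_not_mem hP'p hRP' hne'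
  have hxL : x ∈ L := ⟨hxN, hP'e hxP⟩
  have hbig : IsPGroup q ↥(R ⊔ zpowers x) := hP'p.to_le (sup_le hRP' (zpowers_le.2 hxP))
  have hbigL : R ⊔ zpowers x ≤ L := sup_le hRL (zpowers_le.2 hxL)
  have := S.is_maximal' (hbig.comap_subtype (K := L)) (fun s hs => mem_subgroupOf.2 (mem_sup_left
    (hS'R ▸ mem_map_of_mem L.subtype (show s ∈ Q from hS ▸ hs))))
  have hxS : (⟨x, hxL⟩ : L) ∈ (S : Subgroup L) :=
    this ▸ mem_subgroupOf.2 (mem_sup_right (mem_zpowers x))
  rw [hS] at hxS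
  exact hxR (hS'R ▸ mem_map_of_mem L.subtype hxS)

/-- A `q`-group centralised by an involution at `e` is centralised by a four group at `e` and by an
involution at another point. -/
theorem Good.centralised (h : Good G Ω q) {w : G} {e : Ω} (hw : w ∈ invMap (G := G) e e)
    {Q : Subgroup G} (hQ : IsPGroup q Q) (hQw : Q ≤ centralizer ({w} : Set G)) (hne : Q ≠ ⊥) :
    (∃ V : Subgroup G, IsFour V ∧ (∀ v ∈ V, v • e = e) ∧ V ≤ centralizer (Q : Set G)) ∧
      ∃ c ≠ e, ∃ v ∈ invMap (G := G) c c, ∀ r ∈ Q, Commute r v := by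
  obtain ⟨R, hQR, hR, hRp, hcard⟩ := exists_maximal_le hQ hQw
  obtain ⟨htop, h2, g, hg, hge⟩ := h.isR2 hw hR hRp hcard (fun e0 => hne (le_bot_iff.1 (e0 ▸ hQR)))
  set M := normalizer (R : Set G) with hM
  have hcore : R ≤ coreIn M := by
    intro r hr
    haveI : (R.subgroupOf M).Normal := normal_in_normalizer
    refine ⟨⟨r, le_normalizer hr⟩, CfsgLib.PLocal.le_pPrimeCore ?_ (show _ ∈ R.subgroupOf M from hr), rfl⟩
    rw [Nat.card_congr (subgroupOfEquivOfLe le_normalizer).toEquiv]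
    exact Nat.coprime_two_right.2 (h.odd_card hRp)
  have hcom : ∀ v ∈ M, v ∈ invMap (G := G) e e → ∀ r ∈ R, Commute r v := fun v hv hve r hr =>
    h.core M htop e h2 v hv hve r (hcore hr)
  obtain ⟨V, hVM, hV, hVe⟩ := h2.four
  refine ⟨⟨V, hV, hVe, fun v hv => mem_centralizer_iff.2 fun r hr => ?_⟩, g • e, hge, g * w * g⁻¹,
    ⟨by rw [orderOf_conj_eq]; exact hw.1, by rw [mul_smul, mul_smul, inv_smul_smul, hw.2]⟩,
    fun r hr => ?_⟩
  · by_cases hv1 : v = 1
    · rw [hv1, mul_one, one_mul]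
    · exact (hcom v (hVM hv) ⟨hV.orderOf_eq_two hv hv1, hVe v hv⟩ r (hQR hr)).eq
  · have h1 : g⁻¹ * r * g ∈ R := (mem_normalizer_iff''.1 hg r).1 (hQR hr)
    have h3 : Commute (g⁻¹ * r * g) w := mem_centralizer_singleton_iff.1 (hR h1)
    show r * (g * w * g⁻¹) = g * w * g⁻¹ * r
    calc r * (g * w * g⁻¹) = g * ((g⁻¹ * r * g) * w) * g⁻¹ := by group
      _ = _ := by rw [h3.eq]; group

/-- An inverted `q`-element fixing the centre has centraliser of odd order, inside the stabilizer. -/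
theorem Good.inverted_aux (h : Good G Ω q) {z y : G} {x : Ω} (hz : z ∈ invMap (G := G) x x)
    (hy : IsPGroup q (zpowers y)) (hyx : y • x = x) (hinv : z * y * z⁻¹ = y⁻¹) (hy1 : y ≠ 1) :
    centralizer ({y} : Set G) ≤ MulAction.stabilizer G x ∧
      Odd (Nat.card ↥(centralizer ({y} : Set G))) := by
  have hu := h.world.uf
  have hzN : z ∈ normalizer (zpowers y : Set G) := by
    rw [mem_normalizer_iff_map_conj_eq, MonoidHom.map_zpowers]
    show zpowers (z * y * z⁻¹) = zpowers y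
    rw [hinv, zpowers_inv]
  have hne : ¬ Commute y z := by
    intro hc
    rw [show z * y * z⁻¹ = y by rw [← hc.eq, mul_inv_cancel_right]] at hinv
    have h2 : y ^ 2 = 1 := by rw [sq]; exact mul_eq_one_iff_eq_inv.2 hinv
    exact hy1 (orderOf_eq_one_iff.1 (Nat.eq_one_of_dvd_coprimes
      (Nat.coprime_two_left.2 (h.odd_card hy)) (orderOf_dvd_of_pow_eq_one h2)
      (Subgroup.orderOf_dvd_natCard _ (mem_zpowers y))))
  have hfix : ∀ r ∈ zpowers y, r • x = x := fun r hr => by
    obtain ⟨n, rfl⟩ := mem_zpowers_iff.1 hr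
    exact (MulAction.mem_stabilizer_iff).1 (zpow_mem (show y ∈ MulAction.stabilizer G x from hyx) n)
  have hN : ∀ g ∈ normalizer (zpowers y : Set G), g • x = x := by
    by_contra hall
    push Not at hall
    exact hne (h.commute_of_moves hy hz hzN hfix hall y (mem_zpowers y))
  have hCN : centralizer ({y} : Set G) ≤ normalizer (zpowers y : Set G) := fun c hc => by
    have hc' := mem_centralizer_singleton_iff.1 hc
    rw [mem_normalizer_iff_map_conj_eq, MonoidHom.map_zpowers]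
    show zpowers (c * y * c⁻¹) = zpowers y
    rw [hc', mul_inv_cancel_right]
  refine ⟨fun c hc => hN c (hCN hc), ?_⟩
  by_contra heven
  obtain ⟨u, huC, hu2⟩ := exists_invol_mem (Nat.not_odd_iff_even.1 heven)
  have huy := mem_centralizer_singleton_iff.1 huC
  obtain ⟨-, c, hc, v, hv, hvy⟩ := h.centralised (w := u) (e := x) ⟨hu2, hN u (hCN huC)⟩ hy
    (zpowers_le.2 (mem_centralizer_singleton_iff.2 huy.symm))
    (zpowers_ne_bot.2 hy1)
  exact hc (hu.unique v hv.1 _ _ hv.2
    (hN v (hCN (mem_centralizer_singleton_iff.2 (hvy y (mem_zpowers y)).symm.eq))))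

/-- **NR**: no `q`-element is inverted by an involution fixing a point it fixes. -/
theorem Good.not_inverted (h : Good G Ω q) {z y : G} {x : Ω} (hz : z ∈ invMap (G := G) x x)
    (hy : IsPGroup q (zpowers y)) (hyx : y • x = x) (hinv : z * y * z⁻¹ = y⁻¹) : y = 1 := by
  by_contra hy1
  have hu := h.world.uf
  obtain ⟨hCx, hodd⟩ := h.inverted_aux hz hy hyx hinv hy1
  set C := centralizer ({y} : Set G) with hC
  have hnormC : ∀ g : G, z * g * z⁻¹ = g⁻¹ →
      zpowers z ≤ normalizer ((centralizer ({g} : Set G) : Subgroup G) : Set G) := by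
    intro g hg
    have key : ∀ c ∈ centralizer ({g} : Set G), z * c * z⁻¹ ∈ centralizer ({g} : Set G) := by
      intro c hc
      have hc' : Commute c g⁻¹ := (show Commute c g from mem_centralizer_singleton_iff.1 hc).inv_right
      rw [mem_centralizer_singleton_iff]
      have h2 : g = z * g⁻¹ * z⁻¹ := by
        calc g = (z * g * z⁻¹)⁻¹ := by rw [hg, inv_inv]
          _ = _ := by group
      calc z * c * z⁻¹ * g = z * c * z⁻¹ * (z * g⁻¹ * z⁻¹) := by rw [← h2]
        _ = z * (c * g⁻¹) * z⁻¹ := by group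
        _ = (z * g⁻¹ * z⁻¹) * (z * c * z⁻¹) := by rw [hc'.eq]; group
        _ = g * (z * c * z⁻¹) := by rw [← h2]
    rw [zpowers_le, mem_normalizer_iff]
    refine fun c => ⟨key c, fun hc => ?_⟩
    have h3 := key _ hc
    rwa [inv_eq_self_of_orderOf_two hz.1, show z * (z * c * z) * z = (z * z) * c * (z * z) by group,
      mul_self_of_orderOf_two hz.1, one_mul, mul_one] at h3
  have hcopr : ∀ K : Subgroup G, Odd (Nat.card K) → (Nat.card (zpowers z)).Coprime (Nat.card K) :=
    fun K hK => by rw [Nat.card_zpowers, hz.1]; exact Nat.coprime_two_left.2 hK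
  have hsol : ∀ K : Subgroup G, Group.IsSolvable (zpowers z) ∨ Group.IsSolvable K :=
    fun K => Or.inl (Group.isSolvable_of_comm fun a b => mul_comm' a b)
  obtain ⟨S₀, hyS, hzS⟩ := CfsgLib.Coprime.exists_invariant_sylow_ge (hnormC y hinv) (hcopr C hodd)
    (hsol C) (show zpowers y ≤ C from zpowers_le.2 (mem_centralizer_singleton_iff.2 rfl)) hy
    (zpowers_le.2 (by
      rw [mem_normalizer_iff_map_conj_eq, MonoidHom.map_zpowers]
      show zpowers (z * y * z⁻¹) = zpowers y
      rw [hinv, zpowers_inv]))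
  set S := (S₀ : Subgroup C).map C.subtype with hS
  have hSp : IsPGroup q S := S₀.2.map _
  have hSC : S ≤ C := map_subtype_le _
  have hScard : Nat.card S = q ^ (Nat.card C).factorization q := by
    rw [hS, card_map_of_injective C.subtype_injective]; exact S₀.card_eq_multiplicity
  -- `z` centralises no element of `S`
  have hfree : ∀ g ∈ S, Commute g z → g = 1 := by
    intro g hg hgz
    by_contra hg1
    have hgp : IsPGroup q (zpowers g) := hSp.to_le (zpowers_le.2 hg)
    obtain ⟨⟨V, hV, hVx, hVg⟩, c, hc, v, hv, hvg⟩ := h.centralised hz hgp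
      (zpowers_le.2 (mem_centralizer_singleton_iff.2 hgz.eq)) (zpowers_ne_bot.2 hg1)
    set M := centralizer ({g} : Set G) with hM
    have hzM : z ∈ M := mem_centralizer_singleton_iff.2 hgz.symm.eq
    have hVM : V ≤ M := fun u hu' => mem_centralizer_singleton_iff.2
      (mem_centralizer_iff.1 (hVg hu') g (mem_zpowers g)).symm
    have hvM : v ∈ M := mem_centralizer_singleton_iff.2 (hvg g (mem_zpowers g)).symm.eq
    have hyM : y ∈ M := mem_centralizer_singleton_iff.2 (mem_centralizer_singleton_iff.1 (hSC hg)).symm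
    have hMtop : M ≠ ⊤ := fun htop => by
      haveI := h.world.simple
      haveI : (zpowers g).Normal := ⟨fun a ha k => by
        obtain ⟨n, rfl⟩ := mem_zpowers_iff.1 ha
        have h1 : Commute k g := mem_centralizer_singleton_iff.1 (show k ∈ M from htop ▸ mem_top k)
        rw [(h1.zpow_right n).eq, mul_inv_cancel_right]
        exact ⟨n, rfl⟩⟩
      rcases IsSimpleGroup.eq_bot_or_eq_top_of_normal (zpowers g) inferInstance with h0 | h0
      · exact hg1 (zpowers_eq_bot.1 h0)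
      · have h2 := Subgroup.orderOf_dvd_natCard _ (show z ∈ zpowers g from h0 ▸ mem_top z)
        rw [hz.1] at h2
        exact (h.odd_card hgp).not_two_dvd_nat h2
    obtain ⟨k, hk, hkv⟩ := exists_conj_in hu hzM hvM hz.1 hv.1 hz.2 hv.2 hc.symm
    have hkc : k • x = c := hu.unique v hv.1 _ _ (by
      rw [← hkv, mul_smul, mul_smul, inv_smul_smul, hz.2]) hv.2
    rcases h.world.ih M hMtop x ⟨z, hzM, hz.1, hz.2⟩ ⟨k, hk, fun e => hc (hkc.symm.trans e)⟩ with h1 | h2
    · obtain ⟨o, ho, c', -, hc', hkoc⟩ := h1 z hzM hz.1 k hk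
      have hO : coreIn M ≤ MulAction.stabilizer G x := by
        refine le_stabilizer_of_normal_odd hu (N := coreIn M) ?_ ?_ hV hVx hVM
        · intro a ha
          exact le_normalizer_map M.subtype ⟨⟨a, ha⟩, by rw [normalizer_eq_top]; exact mem_top _, rfl⟩
        · rw [coreIn, card_map_of_injective M.subtype_injective]
          exact CfsgLib.TwoGroups.odd_card_oddCore
      refine hc ?_
      rw [← hkc, hkoc, mul_smul, commute_fix hu hz.1 hc' hz.2]
      exact hO ho
    · obtain ⟨U, hOU, -, hUn, hU2, hUc, -, -⟩ := h2.twoClosed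
      have hzU : z ∈ U := hUc z ⟨hzM, hz.2⟩ 1
        (by rw [pow_one, sq, mul_self_of_orderOf_two hz.1]; exact one_mem _)
      have hyU : y * y ∈ U := by
        have h3 := mul_mem (hUn y ⟨hyM, hyx⟩ z hzU) (inv_mem hzU)
        rwa [show y * z * y⁻¹ * z⁻¹ = y * ((z * y * z⁻¹)⁻¹) by group, hinv, inv_inv] at h3
      obtain ⟨n, hn⟩ := hU2 _ hyU
      rw [← sq, ← pow_mul, ← pow_succ'] at hn
      obtain ⟨r, hr⟩ := exists_pow_eq_self_of_coprime (x := y) (n := 2 ^ (n + 1))
        ((Nat.coprime_two_left.2 (Odd.of_dvd_nat (h.odd_card hy)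
          (Subgroup.orderOf_dvd_natCard _ (mem_zpowers y)))).pow_left _)
      have hyO : y ∈ coreIn M := hr ▸ pow_mem hn r
      have hc2 : Commute y z := h.core M hMtop x h2 z hzM hz y hyO
      rw [← hc2.eq, mul_inv_cancel_right] at hinv
      exact hy1 (orderOf_eq_one_iff.1 (Nat.eq_one_of_dvd_coprimes
        (Nat.coprime_two_left.2 (h.odd_card hy)) (orderOf_dvd_of_pow_eq_one
          (show y ^ 2 = 1 by rw [sq]; exact mul_eq_one_iff_eq_inv.2 hinv))
        (Subgroup.orderOf_dvd_natCard _ (mem_zpowers y))))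
  -- so `z` inverts `S`
  have hinvS : ∀ g ∈ S, z * g * z⁻¹ = g⁻¹ := by
    have hzS' : ∀ s ∈ S, z * s * z⁻¹ ∈ S := fun s hs =>
      (mem_normalizer_iff.1 (zpowers_le.1 hzS) s).1 hs
    let f : S → S := fun s => ⟨(s : G)⁻¹ * (z * s * z⁻¹), mul_mem (inv_mem s.2) (hzS' s s.2)⟩
    have hf : Function.Injective f := fun s t hst => by
      have e : (s : G)⁻¹ * (z * s * z⁻¹) = (t : G)⁻¹ * (z * t * z⁻¹) := congrArg Subtype.val hst
      have h3 := hfree ((t : G) * (s : G)⁻¹) (mul_mem t.2 (inv_mem s.2)) (by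
        show (t : G) * (s : G)⁻¹ * z = z * ((t : G) * (s : G)⁻¹)
        calc (t : G) * (s : G)⁻¹ * z = (t : G) * ((s : G)⁻¹ * (z * s * z⁻¹)) * (z * (s : G)⁻¹) := by
              group
          _ = _ := by rw [e]; group)
      exact Subtype.ext (mul_inv_eq_one.1 h3).symm
    intro g hg
    obtain ⟨s, hs⟩ := (Finite.injective_iff_surjective.1 hf) ⟨g, hg⟩
    have e : (s : G)⁻¹ * (z * s * z⁻¹) = g := congrArg Subtype.val hs
    rw [← e]
    calc z * ((s : G)⁻¹ * (z * s * z⁻¹)) * z⁻¹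
        = (z * (s : G)⁻¹ * z⁻¹) * ((z * z) * s * (z * z)⁻¹) := by group
      _ = _ := by rw [mul_self_of_orderOf_two hz.1]; group
  -- a central element of a Sylow subgroup at `x`
  obtain ⟨P, hSP, hPx, hPp, hPc⟩ := exists_maximal_le hSp (hSC.trans hCx)
  have hPne : P ≠ ⊥ := fun e => hy1 (mem_bot.1 (e ▸ hSP (hyS (mem_zpowers y))))
  haveI : Nontrivial P := P.nontrivial_iff_ne_bot.2 hPne
  haveI := hPp.center_nontrivial
  obtain ⟨⟨g, hgZ⟩, hg1⟩ := _root_.exists_ne (1 : center P)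
  have hgcomm : ∀ r ∈ P, Commute (g : G) r := fun r hr =>
    (congrArg Subtype.val (mem_center_iff.1 hgZ ⟨r, hr⟩)).symm
  have hg1' : (g : G) ≠ 1 := fun e => hg1 (Subtype.ext (Subtype.ext e))
  have hgS : (g : G) ∈ S := by
    have hgC : (g : G) ∈ C :=
      mem_centralizer_singleton_iff.2 (hgcomm y (hSP (hyS (mem_zpowers y)))).eq
    rw [← eq_of_card_eq (R' := S ⊔ zpowers (g : G)) (hPp.to_le (sup_le hSP (zpowers_le.2 g.2)))
      (sup_le hSC (zpowers_le.2 hgC)) le_sup_left hScard]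
    exact mem_sup_right (mem_zpowers _)
  have hgp : IsPGroup q (zpowers (g : G)) := hPp.to_le (zpowers_le.2 g.2)
  obtain ⟨hCgx, hoddg⟩ := h.inverted_aux hz hgp (hPx g.2) (hinvS _ hgS) hg1'
  have hPC : P ≤ centralizer ({(g : G)} : Set G) := fun r hr =>
    mem_centralizer_singleton_iff.2 (hgcomm r hr).symm.eq
  obtain ⟨P₁, hgP₁, hzP₁⟩ := CfsgLib.Coprime.exists_invariant_sylow_ge (hnormC _ (hinvS _ hgS))
    (hcopr _ hoddg) (hsol _)
    (show zpowers (g : G) ≤ centralizer ({(g : G)} : Set G) from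
      zpowers_le.2 (mem_centralizer_singleton_iff.2 rfl)) hgp
    (zpowers_le.2 (by
      rw [mem_normalizer_iff_map_conj_eq, MonoidHom.map_zpowers]
      show zpowers (z * (g : G) * z⁻¹) = _
      rw [hinvS _ hgS, zpowers_inv]))
  set P' := (P₁ : Subgroup ↥(centralizer ({(g : G)} : Set G))).map
    (centralizer ({(g : G)} : Set G)).subtype with hP'
  have hP'p : IsPGroup q P' := P₁.2.map _
  have hP'x : P' ≤ MulAction.stabilizer G x := (map_subtype_le _).trans hCgx
  obtain ⟨P₂, hP₂⟩ := h.exists_sylow_at x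
  obtain ⟨T, hT⟩ := hP'p.exists_le_sylow
  have hbig : Nat.card (T : Subgroup G) ≤ Nat.card P' := by
    have h1 : Nat.card (T : Subgroup G) ≤ Nat.card P := by
      rw [Nat.card_congr (Sylow.equiv T P₂).toEquiv, hPc]
      obtain ⟨n, hn⟩ := IsPGroup.iff_card.1 P₂.2
      rw [hn]
      exact Nat.pow_le_pow_right hq.out.pos
        ((hq.out.pow_dvd_iff_le_factorization Nat.card_pos.ne').1 (hn ▸ card_dvd_of_le hP₂))
    refine h1.trans ?_
    rw [hP', card_map_of_injective (centralizer ({(g : G)} : Set G)).subtype_injective,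
      P₁.card_eq_multiplicity]
    obtain ⟨n, hn⟩ := IsPGroup.iff_card.1 hPp
    rw [hn]
    exact Nat.pow_le_pow_right hq.out.pos
      ((hq.out.pow_dvd_iff_le_factorization Nat.card_pos.ne').1 (hn ▸ card_dvd_of_le hPC))
  have hTP' : P' = (T : Subgroup G) := eq_of_le_of_card_ge hT hbig
  obtain ⟨a, b, hab, hF⟩ := h.sylow_fix T
  have hxF : x ∈ fixSet (Ω := Ω) P' := hP'x
  have hmov : ∃ u ∈ normalizer (P' : Set G), u • x ≠ x := by
    rw [hTP'] at hxF ⊢
    have hTD : (T : Subgroup G) ≤ pairStab G a b :=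
      le_pairStab_of_mem (a := a) (y := b) (hF.ge (Or.inl rfl)) (hF.ge (Or.inr rfl))
    obtain ⟨u, hu', hu''⟩ := exists_swapper_normalizer hu hab T.2 hTD
      (card_eq_of_maximal hTD T.2 fun R' hR' _ hle => T.is_maximal' hR' hle)
    refine ⟨u, hu', fun hux => ?_⟩
    rcases hF.le hxF with rfl | rfl
    · exact hab (hux.symm.trans hu''.2)
    · exact hab ((smul_back hu''.1 hu''.2).symm.trans hux)
  have hgP' : (g : G) ∈ P' := hgP₁ (mem_zpowers _)
  exact hg1' (hfree _ hgS (h.commute_of_moves hP'p hz (zpowers_le.1 hzP₁) hxF hmov _ hgP'))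

/-- A `q`-group fixing `x` and normalised by an involution at `x` is centralised by it. -/
theorem Good.commute_of_fix (h : Good G Ω q) {z : G} {x : Ω} (hz : z ∈ invMap (G := G) x x)
    {Q : Subgroup G} (hQ : IsPGroup q Q) (hzQ : z ∈ normalizer (Q : Set G))
    (hfix : x ∈ fixSet (Ω := Ω) Q) : ∀ r ∈ Q, Commute r z := by
  intro r hr
  have hy : r⁻¹ * (z * r * z⁻¹) ∈ Q := mul_mem (inv_mem hr) ((mem_normalizer_iff.1 hzQ r).1 hr)
  have h1 := h.not_inverted hz (hQ.to_le (zpowers_le.2 hy)) (hfix _ hy) (by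
    calc z * (r⁻¹ * (z * r * z⁻¹)) * z⁻¹ = (z * r⁻¹ * z⁻¹) * ((z * z) * r * (z * z)⁻¹) := by group
      _ = _ := by rw [mul_self_of_orderOf_two hz.1]; group)
  have h2 : r = z * r * z⁻¹ := inv_mul_eq_one.1 h1
  show r * z = z * r
  calc r * z = z * r * z⁻¹ * z := by rw [← h2]
    _ = z * r := by group

end CfsgLib.BenderWorld
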