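import Cfsg.Agent.BenderWorld.TwoTransitive.Centraliser

/-!
# Route 8, steps 4 and 5: every pair is full, `G` is doubly transitive, and star
-/

set_option autoImplicit false
set_option linter.style.haveILetI false

namespace CfsgLib.BenderWorld

open CfsgLib.Small CfsgLib.SEmbed Subgroup

variable {G : Type*} [Group G] [Finite G] {Ω : Type*} [MulAction G Ω] {q : ℕ} [hq : Fact q.Prime]

/-- Fixed points of a `q`-group on an invariant set. -/
theorem card_set_modEq (hu : UniqueFix G Ω) {S : Subgroup G} (hS : IsPGroup q S) {s : Set Ω}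
    (hs : ∀ g ∈ S, ∀ x ∈ s, g • x ∈ s) :
    Nat.card s ≡ Nat.card ↥(s ∩ fixSet (Ω := Ω) S : Set Ω) [MOD q] := by
  haveI := finite_points hu
  letI : MulAction S s := {
    smul := fun g x => ⟨(g : G) • x.1, hs g g.2 x.1 x.2⟩
    one_smul := fun x => Subtype.ext (one_smul G x.1)
    mul_smul := fun g g' x => Subtype.ext (mul_smul (g : G) (g' : G) x.1) }
  have e : Nat.card (MulAction.fixedPoints S s) = Nat.card ↥(s ∩ fixSet (Ω := Ω) S : Set Ω) :=
    Nat.card_congr
      { toFun := fun x => ⟨x.1.1, x.1.2, fun r hr => congrArg Subtype.val (x.2 ⟨r, hr⟩)⟩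
        invFun := fun x => ⟨⟨x.1, x.2.1⟩, fun r => Subtype.ext (x.2.2 r r.2)⟩
        left_inv := fun _ => rfl
        right_inv := fun _ => rfl }
  exact e ▸ hS.card_modEq_card_fixedPoints s

/-- An isolated involution all whose conjugates move an invariant set, swapping each of its points with
a given one: the set is a pair. -/
theorem fix_pair_of_swaps (hu : UniqueFix G Ω) {U : Subgroup G} {F : Set Ω}
    (hF : ∀ g ∈ U, ∀ x ∈ F, g • x ∈ F) {a : Ω} (ha : a ∈ F) {w : G} (hwN : w ∈ U)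
    (hwo : orderOf w = 2) (hiso : Cfsg.IsIsolatedInvolution (⟨w, hwN⟩ : U))
    (hswap : ∀ y ∈ F, y ≠ a → ∃ g ∈ U, (g * w * g⁻¹) • a = y)
    (hnofix : ∀ i ∈ U, orderOf i = 2 → ∀ y ∈ F, i • y ≠ y) : F ⊆ {a, w • a} := by
  have hOn : (Cfsg.oddCore U).Normal := inferInstance
  set O := (Cfsg.oddCore U).map U.subtype with hO
  have hOU : O ≤ U := map_subtype_le _
  have hOnorm : ∀ g ∈ U, ∀ o ∈ O, g * o * g⁻¹ ∈ O := by
    rintro g hg _ ⟨o, ho, rfl⟩
    exact ⟨⟨g, hg⟩ * o * ⟨g, hg⟩⁻¹, hOn.conj_mem o ho _, rfl⟩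
  have hF2 : ∀ y ∈ F, y ≠ a → ∃ o ∈ O, o • w • a = y := by
    intro y hy hya
    obtain ⟨g, hg, hgy⟩ := hswap y hy hya
    obtain ⟨o, ho, c, hc, hgc⟩ := CfsgLib.TwoGroups.exists_mul_centralizer hiso ⟨g, hg⟩
    have hgc' : g = (o : G) * c := congrArg Subtype.val hgc
    have hcw : (c : G) * w = w * c := congrArg Subtype.val (mem_centralizer_singleton_iff.1 hc)
    have hu' : g * w * g⁻¹ = ((o : G) * (w * (o : G)⁻¹ * w⁻¹)) * w := by
      rw [hgc']
      calc (o : G) * c * w * ((o : G) * c)⁻¹ = (o : G) * ((c : G) * w) * (c : G)⁻¹ * (o : G)⁻¹ := by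
            group
        _ = _ := by rw [hcw]; group
    refine ⟨(o : G) * (w * (o : G)⁻¹ * w⁻¹), mul_mem ⟨o, ho, rfl⟩
      (hOnorm w hwN _ (inv_mem ⟨o, ho, rfl⟩)), ?_⟩
    rw [← mul_smul, ← hu', hgy]
  have hOodd : Odd (Nat.card O) := by
    rw [hO, Nat.card_congr ((Cfsg.oddCore U).equivMapOfInjective _ U.subtype_injective).symm.toEquiv]
    exact CfsgLib.TwoGroups.odd_card_oddCore
  have hsep : ∀ o ∈ O, o • a ≠ w • a := by
    intro o ho he
    have horb : F = MulAction.orbit O a := by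
      ext y
      constructor
      · intro hy
        by_cases hya : y = a
        · rw [hya]; exact MulAction.mem_orbit_self a
        · obtain ⟨o', ho', hoy⟩ := hF2 y hy hya
          exact ⟨⟨o' * o, mul_mem ho' ho⟩, by
            show (o' * o) • a = y
            rw [mul_smul, he, hoy]⟩
      · rintro ⟨o', rfl⟩
        exact hF o' (hOU o'.2) a ha
    have hcardF : Odd (Nat.card F) := by
      rw [horb, Nat.card_congr (MulAction.orbitEquivQuotientStabilizer O a), ← Subgroup.index_eq_card]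
      exact hOodd.of_dvd_nat (Subgroup.index_dvd_card _)
    obtain ⟨x, hx, hwx⟩ := (exists_fix_iff_odd hu hwo (fun x hx => hF w hwN x hx)).2 hcardF
    exact hnofix w hwN hwo x hx hwx
  have hfix : ∀ o ∈ O, o • a = a := by
    intro o ho
    by_contra hne
    obtain ⟨o', ho', he⟩ := hF2 _ (hF o (hOU ho) a ha) hne
    refine hsep (o'⁻¹ * o) (mul_mem (inv_mem ho') ho) ?_
    rw [mul_smul, ← he, inv_smul_smul]
  intro y hy
  by_cases hya : y = a
  · exact Or.inl hya
  · obtain ⟨o, ho, he⟩ := hF2 y hy hya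
    right
    rw [Set.mem_singleton_iff, ← he, ← mul_smul, show o * w = w * (w⁻¹ * o * w⁻¹⁻¹) by group,
      mul_smul, hfix _ (hOnorm w⁻¹ (inv_mem hwN) o ho)]

/-- **Step 4**: a `q`-group fixing three points is centralised by an involution. -/
theorem Good.exists_invol_of_three (h : Good G Ω q) {T : Subgroup G} (hT : IsPGroup q T) {a b c : Ω}
    (ha : a ∈ fixSet (Ω := Ω) T) (hb : b ∈ fixSet (Ω := Ω) T) (hc : c ∈ fixSet (Ω := Ω) T)
    (hab : a ≠ b) (hac : a ≠ c) (hbc : b ≠ c) :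
    ∃ u : G, orderOf u = 2 ∧ ∀ r ∈ T, Commute r u := by
  have hu := h.world.uf
  by_contra hbad
  obtain ⟨T, -, ⟨hT', ⟨a, b, c, ha, hb, hc, hab, hac, hbc⟩, hbad⟩, hmax⟩ :=
    (Set.toFinite {T : Subgroup G | IsPGroup q T ∧ (∃ a b c : Ω, a ∈ fixSet (Ω := Ω) T ∧
      b ∈ fixSet (Ω := Ω) T ∧ c ∈ fixSet (Ω := Ω) T ∧ a ≠ b ∧ a ≠ c ∧ b ≠ c) ∧
      ¬ ∃ u : G, orderOf u = 2 ∧ ∀ r ∈ T, Commute r u}).exists_le_maximal
      ⟨hT, ⟨a, b, c, ha, hb, hc, hab, hac, hbc⟩, hbad⟩
  set U := normalizer (T : Set G) with hU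
  set F := fixSet (Ω := Ω) T with hFdef
  have hFU : ∀ g ∈ U, ∀ x ∈ F, g • x ∈ F := fun g hg x hx => smul_mem_fixSet hg hx
  have hnofix : ∀ i ∈ U, orderOf i = 2 → ∀ y ∈ F, i • y ≠ y := fun i hi hio y hy hiy =>
    hbad ⟨i, hio, h.commute_of_fix ⟨hio, hiy⟩ hT' hi hy⟩
  have hnofour : ∀ V : Subgroup G, IsFour V → ¬ V ≤ U := by
    intro V hV hVU
    obtain ⟨e, he⟩ := IsFour.exists_point hu hV
    obtain ⟨v, hv, hvo⟩ := hV.exists_invol
    exact hnofix v (hVU hv) hvo e
      (fun r hr => le_stabilizer_of_four hu hV he (h.odd_card hT') hVU hr) (he hv)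
  -- a pair is swapped in `U` or is the fixed set of a Sylow subgroup of `U`
  have hpair : ∀ x ∈ F, ∀ y ∈ F, x ≠ y → (∃ u ∈ U, u ∈ invMap (G := G) x y) ∨
      ∃ S : Subgroup G, S ≤ U ∧ T ≤ S ∧ IsPGroup q S ∧
        Nat.card S = q ^ (Nat.card U).factorization q ∧ fixSet (Ω := Ω) S = {x, y} := by
    intro x hx y hy hxy
    have hTD := le_pairStab_of_mem (R := T) hx hy
    obtain ⟨R, hTR, hRD, hR, hRc⟩ := exists_maximal_le hT' hTD
    by_cases hRT : T = R
    · exact Or.inl (exists_swapper_normalizer hu hxy hT' hTD (hRT ▸ hRc))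
    right
    obtain ⟨g, hgR, hgN, hgT⟩ := exists_normalizer_not_mem hR hTR hRT
    set T₁ := T ⊔ zpowers g with hT₁
    have hT₁R : T₁ ≤ R := sup_le hTR (zpowers_le.2 hgR)
    have hT₁U : T₁ ≤ U := sup_le le_normalizer (zpowers_le.2 hgN)
    have hT₁F : fixSet (Ω := Ω) T₁ = {x, y} := by
      have hsub : ({x, y} : Set Ω) ⊆ fixSet (Ω := Ω) T₁ := by
        rintro z (rfl | rfl)
        exacts [fun r hr => (mem_pairStab.1 (hRD (hT₁R hr))).1,
          fun r hr => (mem_pairStab.1 (hRD (hT₁R hr))).2]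
      refine Set.Subset.antisymm (fun z hz => ?_) hsub
      by_contra hzne
      simp only [Set.mem_insert_iff, Set.mem_singleton_iff, not_or] at hzne
      refine hgT (hmax (y := T₁) ⟨hR.to_le hT₁R, ⟨x, y, z, hsub (Or.inl rfl), hsub (Or.inr rfl), hz,
        hxy, Ne.symm hzne.1, Ne.symm hzne.2⟩, fun ⟨u, huo, huc⟩ =>
          hbad ⟨u, huo, fun r hr => huc r (mem_sup_left hr)⟩⟩ le_sup_left
        (mem_sup_right (mem_zpowers g)))
    obtain ⟨S, hT₁S, hSU, hS, hSc⟩ := exists_maximal_le (hR.to_le hT₁R) hT₁U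
    exact ⟨S, hSU, le_sup_left.trans hT₁S, hS, hSc, h.fixes_of_two hT₁F hS hT₁S⟩
  rcases Nat.even_or_odd (Nat.card U) with hev | hodd
  · -- `U` has an involution `w`, isolated in `U`
    obtain ⟨w, hw, hwo⟩ := exists_invol_mem hev
    have hiso : Cfsg.IsIsolatedInvolution (⟨w, hw⟩ : U) := by
      refine ⟨by rw [Subgroup.orderOf_mk, hwo], fun g hg => ?_⟩
      by_contra hne
      have hw'o : orderOf ((g : G) * w * (g : G)⁻¹) = 2 := (orderOf_conj_eq _ _).trans hwo
      have hcomm : Commute w ((g : G) * w * (g : G)⁻¹) := congrArg Subtype.val hg.eq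
      refine hnofour _ (isFour_closure_pair hwo hw'o (fun e => hne (Subtype.ext e.symm)) hcomm)
        ((closure_le _).2 ?_)
      rintro x (rfl | rfl)
      exacts [hw, mul_mem (mul_mem g.2 hw) (inv_mem g.2)]
    -- a `w`-invariant Sylow subgroup of `U`
    obtain ⟨Q, -, hQmax⟩ := (Set.toFinite {Q : Subgroup U | IsPGroup q Q ∧
      (⟨w, hw⟩ : U) ∈ normalizer (Q : Set U)}).exists_le_maximal (a := ⊥)
      ⟨IsPGroup.of_bot, mem_normalizer_iff.2 fun z => by simp⟩
    obtain ⟨S₀, hS₀⟩ := CfsgLib.TwoGroups.exists_sylow_eq_of_maximal_invariant hiso hQmax.1.1 hQmax.1.2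
      fun Q' h1 h2 h3 => le_antisymm (hQmax.2 ⟨h1, h2⟩ h3) h3
    have hw₀ : w ∈ normalizer ((S₀ : Subgroup U).map U.subtype : Set G) := by
      refine le_normalizer_map U.subtype ⟨⟨w, hw⟩, ?_, rfl⟩
      rw [hS₀]; exact hQmax.1.2
    have hc₀ : Nat.card ((S₀ : Subgroup U).map U.subtype) = q ^ (Nat.card U).factorization q := by
      rw [card_map_of_injective U.subtype_injective]; exact S₀.card_eq_multiplicity
    have hswap : ∀ x ∈ F, ∀ y ∈ F, x ≠ y → ∃ g ∈ U, (g * w * g⁻¹) • x = y := by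
      intro x hx y hy hxy
      rcases hpair x hx y hy hxy with ⟨u, huU, hu'⟩ | ⟨S, hSU, hTS, hS, hSc, hSF⟩
      · -- involutions of `U` are conjugate
        have hodd' : Odd (orderOf (w * u)) := by
          by_contra hne
          obtain ⟨hz, hzw, hzu⟩ := half_pow_spec hwo hu'.1 (Nat.not_odd_iff_even.1 hne)
          set z := (w * u) ^ (orderOf (w * u) / 2) with hzdef
          have hzU : z ∈ U := pow_mem (mul_mem hw huU) _
          by_cases hzwe : z = w
          · by_cases hwu : w = u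
            · rw [hwu, mul_self_of_orderOf_two hu'.1, orderOf_one] at hne
              exact hne odd_one
            · refine hnofour _ (isFour_closure_pair hwo hu'.1 hwu (hzwe ▸ hzu)) ((closure_le _).2 ?_)
              rintro x (rfl | rfl)
              exacts [hw, huU]
          · refine hnofour _ (isFour_closure_pair hz hwo hzwe hzw) ((closure_le _).2 ?_)
            rintro x (rfl | rfl)
            exacts [hzU, hw]
        obtain ⟨k, hk⟩ := conj_pow_eq_of_odd hwo hu'.1 hodd'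
        exact ⟨_, pow_mem (mul_mem hw huU) k, by rw [hk]; exact hu'.2⟩
      · obtain ⟨g, hg, hgS⟩ := exists_conj_of_card (S₀.2.map _) hS (map_subtype_le _) hSU hc₀ hSc
        have hmem : ∀ z ∈ ({x, y} : Set Ω),
            g⁻¹ • z ∈ fixSet (Ω := Ω) ((S₀ : Subgroup U).map U.subtype) := by
          intro z hz r hr
          have h1 := hSF.ge hz _ (hgS.le (mem_map_of_mem _ hr))
          change (g * r * g⁻¹) • z = z at h1
          rw [mul_smul, mul_smul] at h1
          exact eq_inv_smul_iff.2 h1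
        have hF₀ : fixSet (Ω := Ω) ((S₀ : Subgroup U).map U.subtype) ⊆ {g⁻¹ • x, g⁻¹ • y} := by
          intro z hz
          have h1 : g • z ∈ fixSet (Ω := Ω) S := by
            intro r hr
            obtain ⟨r', hr', rfl⟩ := hgS.ge hr
            show (g * r' * g⁻¹) • g • z = g • z
            rw [smul_smul, inv_mul_cancel_right, mul_smul, hz r' hr']
          rw [hSF] at h1
          rcases h1 with h1 | h1
          · left; rw [← h1, inv_smul_smul]
          · right; rw [Set.mem_singleton_iff] at h1 ⊢; rw [← h1, inv_smul_smul]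
        refine ⟨g, hg, ?_⟩
        rcases hF₀ (smul_mem_fixSet hw₀ (hmem x (Or.inl rfl))) with h1 | h1
        · exact absurd h1 (hnofix w hw hwo _ (hFU _ (inv_mem hg) x hx))
        · rw [Set.mem_singleton_iff] at h1
          rw [mul_smul, mul_smul, h1, smul_inv_smul]
    have hsub := fix_pair_of_swaps hu hFU ha hw hwo hiso (fun y hy hya => hswap a ha y hy hya.symm) hnofix
    rcases hsub hb with h1 | h1
    · exact hab h1.symm
    rcases hsub hc with h2 | h2
    · exact hac h2.symm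
    exact hbc (h1.trans h2.symm)
  · -- `U` has odd order: its Sylow subgroups would make it transitive on pairs
    have hnoswap : ∀ g ∈ U, ∀ x y : Ω, g • x = y → g • y = x → x = y := by
      intro g hg x y hxy hyx
      have hev : ∀ n : ℕ, g ^ (2 * n) • x = x := by
        intro n
        induction n with
        | zero => simp
        | succ n ih => rw [Nat.mul_succ, pow_add, mul_smul, pow_two, mul_smul, hxy, hyx, ih]
      obtain ⟨k, hk⟩ := hodd.of_dvd_nat (Subgroup.orderOf_dvd_natCard U hg)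
      have h1 := hev (k + 1)
      rw [show 2 * (k + 1) = orderOf g + 1 by omega, pow_succ, pow_orderOf_eq_one, one_mul, hxy] at h1
      exact h1.symm
    have hsyl : ∀ x ∈ F, ∀ y ∈ F, x ≠ y → ∃ S : Subgroup G, S ≤ U ∧ T ≤ S ∧ IsPGroup q S ∧
        Nat.card S = q ^ (Nat.card U).factorization q ∧ fixSet (Ω := Ω) S = {x, y} := by
      intro x hx y hy hxy
      rcases hpair x hx y hy hxy with ⟨u, huU, hu'⟩ | h'
      · exact absurd (hnoswap u huU x y hu'.2 (smul_back hu'.1 hu'.2)) hxy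
      · exact h'
    have hhom : ∀ x ∈ F, ∀ y ∈ F, x ≠ y →
        ∃ g ∈ U, (g • a = x ∧ g • b = y) ∨ (g • a = y ∧ g • b = x) := by
      intro x hx y hy hxy
      obtain ⟨S, hSU, -, hS, hSc, hSF⟩ := hsyl a ha b hb hab
      obtain ⟨S', hS'U, -, hS', hS'c, hS'F⟩ := hsyl x hx y hy hxy
      obtain ⟨g, hg, hgS⟩ := exists_conj_of_card hS hS' hSU hS'U hSc hS'c
      have hmem : ∀ z ∈ ({a, b} : Set Ω), g • z ∈ ({x, y} : Set Ω) := by
        intro z hz
        rw [← hS'F]
        intro r hr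
        obtain ⟨r', hr', rfl⟩ := hgS.ge hr
        show (g * r' * g⁻¹) • g • z = g • z
        rw [smul_smul, inv_mul_cancel_right, mul_smul, hSF.ge hz r' hr']
      refine ⟨g, hg, ?_⟩
      have hne : g • a ≠ g • b := fun e => hab (smul_left_cancel g e)
      rcases hmem a (Or.inl rfl) with h1 | h1 <;> rcases hmem b (Or.inr rfl) with h2 | h2
      · exact absurd (h1.trans h2.symm) hne
      · exact Or.inl ⟨h1, h2⟩
      · exact Or.inr ⟨h1, h2⟩
      · exact absurd (h1.trans h2.symm) hne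
    -- `a` and `b` lie in one orbit
    obtain ⟨h₀, hh₀, hh₀b⟩ : ∃ g ∈ U, g • b = a := by
      by_contra hno
      push Not at hno
      obtain ⟨g, hg, hgc⟩ := hhom a ha c hc hac
      obtain ⟨g', hg', hg''⟩ := hhom b hb c hc hbc
      rcases hgc with ⟨hga, hgb⟩ | ⟨hga, hgb⟩
      · rcases hg'' with ⟨h'a, h'b⟩ | ⟨h'a, h'b⟩
        · exact hno g'⁻¹ (inv_mem hg') (by rw [← h'a, inv_smul_smul])
        · exact hno (g'⁻¹ * g) (mul_mem (inv_mem hg') hg) (by rw [mul_smul, hgb, ← h'a, inv_smul_smul])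
      · exact hno g hg hgb
    set y := h₀ • a with hy
    have hyF : y ∈ F := hFU h₀ hh₀ a ha
    have hya : y ≠ a := fun e => hab (smul_left_cancel h₀ (e.trans hh₀b.symm))
    -- the orbit of `b` under the stabilizer of `a`
    set O : Set Ω := {z | ∃ g ∈ U, g • a = a ∧ g • b = z} with hO
    have hOinv : ∀ S : Subgroup G, S ≤ U → a ∈ fixSet (Ω := Ω) S → ∀ g ∈ S, ∀ z ∈ O, g • z ∈ O := by
      rintro S hSU hSa g hg z ⟨k, hk, hka, hkb⟩
      exact ⟨g * k, mul_mem (hSU hg) hk, by rw [mul_smul, hka, hSa g hg], by rw [mul_smul, hkb]⟩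
    have haO : a ∉ O := by
      rintro ⟨k, hk, hka, hkb⟩
      exact hab (smul_left_cancel k (hka.trans hkb.symm))
    have hyO : y ∉ O := by
      rintro ⟨k, hk, hka, hkb⟩
      refine hab (hnoswap (k⁻¹ * h₀) (mul_mem (inv_mem hk) hh₀) a b ?_ ?_)
      · rw [mul_smul, inv_smul_eq_iff, hkb]
      · rw [mul_smul, hh₀b, inv_smul_eq_iff, hka]
    obtain ⟨S, hSU, -, hS, -, hSF⟩ := hsyl a ha b hb hab
    obtain ⟨S', hS'U, -, hS', -, hS'F⟩ := hsyl a ha y hyF hya.symm
    have h1 := card_set_modEq (s := O) hu hS (hOinv S hSU (hSF.ge (Or.inl rfl)))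
    have h2 := card_set_modEq (s := O) hu hS' (hOinv S' hS'U (hS'F.ge (Or.inl rfl)))
    have e1 : (O ∩ fixSet (Ω := Ω) S : Set Ω) = {b} := by
      ext z
      constructor
      · rintro ⟨hz, hzS⟩
        rw [hSF] at hzS
        rcases hzS with rfl | hzb
        · exact absurd hz haO
        · exact hzb
      · rintro rfl
        exact ⟨⟨1, one_mem _, one_smul _ _, one_smul _ _⟩, hSF.ge (Or.inr rfl)⟩
    have e2 : (O ∩ fixSet (Ω := Ω) S' : Set Ω) = ∅ := by
      refine Set.eq_empty_iff_forall_notMem.2 ?_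
      rintro z ⟨hz, hzS⟩
      rw [hS'F] at hzS
      rcases hzS with rfl | rfl
      exacts [haO hz, hyO hz]
    rw [e1, Nat.card_coe_set_eq {b}, Set.ncard_singleton] at h1
    rw [e2, Nat.card_coe_set_eq (∅ : Set Ω), Set.ncard_empty] at h2
    have h3 : 1 ≡ 0 [MOD q] := h1.symm.trans h2
    exact hq.out.not_dvd_one (Nat.modEq_zero_iff_dvd.1 h3)

/-- **Step 5**: every pair is full. -/
theorem Good.exists_sylow_pair (h : Good G Ω q) {x y : Ω} (hxy : x ≠ y) :
    ∃ P : Sylow q G, fixSet (Ω := Ω) (P : Subgroup G) = {x, y} := by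
  have hu := h.world.uf
  obtain ⟨T, -, hTD, hT, hTc⟩ := exists_maximal_le (q := q) (K := pairStab G x y) IsPGroup.of_bot bot_le
  obtain ⟨P, hP⟩ := hT.exists_le_sylow
  obtain ⟨u, huN, hu'⟩ := exists_swapper_normalizer hu hxy hT hTD hTc
  have hsub : ({x, y} : Set Ω) ⊆ fixSet (Ω := Ω) T := by
    rintro z (rfl | rfl)
    exacts [fun r hr => (mem_pairStab.1 (hTD hr)).1, fun r hr => (mem_pairStab.1 (hTD hr)).2]
  refine ⟨P, ?_⟩
  by_cases hT2 : fixSet (Ω := Ω) T = {x, y}
  · exact h.fixes_of_two hT2 P.2 hP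
  exfalso
  obtain ⟨z, hz, hzne⟩ := Set.not_subset.1 fun hle => hT2 (Set.Subset.antisymm hle hsub)
  simp only [Set.mem_insert_iff, Set.mem_singleton_iff, not_or] at hzne
  obtain ⟨v, hvo, hvc⟩ := h.exists_invol_of_three hT (hsub (Or.inl rfl)) (hsub (Or.inr rfl)) hz hxy
    (Ne.symm hzne.1) (Ne.symm hzne.2)
  obtain ⟨e, he⟩ := hu.exists_fix v hvo
  have hvF : ∀ p ∈ fixSet (Ω := Ω) T, v • p ∈ fixSet (Ω := Ω) T := fun p hp r hr => by
    rw [smul_smul, (hvc r hr).eq, mul_smul, hp r hr]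
  have heF : e ∈ fixSet (Ω := Ω) T := fun r hr => commute_fix hu hvo (hvc r hr) he
  have hodd := (exists_fix_iff_odd hu hvo hvF).1 ⟨e, heF, he⟩
  obtain ⟨p, hp, hup⟩ :=
    (exists_fix_iff_odd hu hu'.1 (fun p hp => smul_mem_fixSet huN hp)).2 hodd
  exact h.not_centralised hxy hTD hTc (Or.inl hu') (h.commute_of_fix ⟨hu'.1, hup⟩ hT huN hp)

theorem Good.factorization_pairStab (h : Good G Ω q) {x y : Ω} (hxy : x ≠ y) :
    (Nat.card (pairStab G x y)).factorization q = (Nat.card G).factorization q := by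
  obtain ⟨P, hP⟩ := h.exists_sylow_pair hxy
  have h1 := card_dvd_of_le (le_pairStab_of_mem (R := (P : Subgroup G)) (a := x) (y := y)
    (hP.ge (Or.inl rfl)) (hP.ge (Or.inr rfl)))
  rw [P.card_eq_multiplicity] at h1
  exact le_antisymm ((Nat.factorization_le_iff_dvd Nat.card_pos.ne' Nat.card_pos.ne').2
    (card_subgroup_dvd_card _) q) ((hq.out.pow_dvd_iff_le_factorization Nat.card_pos.ne').1 h1)

/-- **Double transitivity**. -/
theorem Good.two_transitive (h : Good G Ω q) {a b c d : Ω} (hab : a ≠ b) (hcd : c ≠ d) :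
    ∃ g : G, g • a = c ∧ g • b = d := by
  have hu := h.world.uf
  obtain ⟨P, hP⟩ := h.exists_sylow_pair hab
  obtain ⟨P', hP'⟩ := h.exists_sylow_pair hcd
  obtain ⟨g, hg⟩ := MulAction.exists_smul_eq G P P'
  have hmem : ∀ z ∈ ({a, b} : Set Ω), g • z ∈ ({c, d} : Set Ω) := by
    intro z hz
    rw [← hP', ← hg]
    intro r hr
    rw [Sylow.coe_subgroup_smul] at hr
    obtain ⟨r', hr', rfl⟩ := hr
    show (g * r' * g⁻¹) • g • z = g • z
    rw [smul_smul, inv_mul_cancel_right, mul_smul, hP.ge hz r' hr']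
  have hne : g • a ≠ g • b := fun e => hab (smul_left_cancel g e)
  rcases hmem a (Or.inl rfl) with h1 | h1 <;> rcases hmem b (Or.inr rfl) with h2 | h2
  · exact absurd (h1.trans h2.symm) hne
  · exact ⟨g, h1, h2⟩
  · obtain ⟨s, hs, hsc⟩ := hu.exists_inv c
    obtain ⟨t, ht, htd⟩ := hu.exists_inv d
    obtain ⟨i, hi, -⟩ := exists_interchange hu hs ht hsc htd hcd
    exact ⟨i * g, by rw [mul_smul, h1, smul_back hi.1 hi.2], by rw [mul_smul, h2, hi.2]⟩
  · exact absurd (h1.trans h2.symm) hne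

/-- **Star**: a `q`-group in a pair stabilizer centralised by an involution at one of the points is
centralised by a swapper and by an involution at the other point. -/
theorem Good.star (h : Good G Ω q) {t : G} {e z : Ω} (hez : e ≠ z) (ht : t ∈ invMap (G := G) e e)
    {Q : Subgroup G} (hQ : IsPGroup q Q) (hQD : Q ≤ pairStab G e z)
    (hQt : Q ≤ centralizer ({t} : Set G)) (hne : Q ≠ ⊥) :
    (∃ w ∈ invMap (G := G) e z, ∀ r ∈ Q, Commute r w) ∧
      ∃ s ∈ invMap (G := G) z z, ∀ r ∈ Q, Commute r s := by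
  have hu := h.world.uf
  set D := pairStab G e z with hD
  obtain ⟨R, hQR, hRD, hR, hRc⟩ :=
    exists_maximal_le (K := D ⊓ centralizer ({t} : Set G)) hQ (le_inf hQD hQt)
  have hRe : ∀ r ∈ R, r • e = e := fun r hr => (mem_pairStab.1 (hRD hr).1).1
  have hRz : ∀ r ∈ R, r • z = z := fun r hr => (mem_pairStab.1 (hRD hr).1).2
  have hnum : numInv G e ≠ 0 := fun e0 => by
    have h0 := (odd_pairStab hu hez).pos
    rw [card_pairStab_eq hu hez (Or.inr ht), e0, zero_mul] at h0
    exact lt_irrefl 0 h0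
  -- `R` is a Sylow subgroup of `C(t)`
  have hRC : Nat.card R = q ^ (Nat.card ↥(centralizer ({t} : Set G))).factorization q := by
    rw [hRc]
    congr 1
    obtain ⟨R₁, -, hR₁C, hR₁, hR₁c⟩ :=
      exists_maximal_le (q := q) (K := centralizer ({t} : Set G)) IsPGroup.of_bot bot_le
    obtain ⟨x₁, x₂, hx12, hx₁, hx₂⟩ := h.exists_two_fixed hR₁
    obtain ⟨y, hy, hty⟩ : ∃ y ∈ fixSet (Ω := Ω) R₁, t • y ≠ y := by
      by_contra hall
      push Not at hall
      exact hx12 (hu.unique t ht.1 _ _ (hall x₁ hx₁) (hall x₂ hx₂))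
    refine le_antisymm ((Nat.factorization_le_iff_dvd Nat.card_pos.ne' Nat.card_pos.ne').2
      (card_dvd_of_le inf_le_right) q) ?_
    have h1 := h.factorization_pairStab hez
    rw [← h.factorization_pairStab hty.symm, card_pairStab_eq hu hez (Or.inr ht),
      card_pairStab_eq hu hty.symm (Or.inl ⟨ht.1, rfl⟩),
      show numInv G y = numInv G e from card_invMap_self hu y e,
      Nat.factorization_mul hnum Nat.card_pos.ne', Nat.factorization_mul hnum Nat.card_pos.ne',
      Finsupp.add_apply, Finsupp.add_apply, Nat.add_left_cancel_iff] at h1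
    rw [h1]
    have h2 := card_dvd_of_le (le_inf (fun r hr => mem_pairStab.2 ⟨hy r hr, by
      rw [smul_smul, mem_centralizer_singleton_iff.1 (hR₁C hr), mul_smul, hy r hr]⟩) hR₁C :
      R₁ ≤ pairStab G y (t • y) ⊓ centralizer ({t} : Set G))
    rw [hR₁c] at h2
    exact (hq.out.pow_dvd_iff_le_factorization Nat.card_pos.ne').1 h2
  have hRne : R ≠ ⊥ := fun e0 => hne (le_bot_iff.1 (e0 ▸ hQR))
  obtain ⟨-, c, hc, s₀, hs₀, hRs₀⟩ := h.centralised ht hR (hRD.trans inf_le_right) hRne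
  obtain ⟨i, hi, his⟩ := exists_interchange hu ht.1 hs₀.1 ht.2 hs₀.2 hc.symm
  have hRi : ∀ r ∈ R, Commute r i := by
    intro r hr
    obtain ⟨j, -, huniq⟩ := existsUnique_interchange hu hc.symm ht hs₀
    have hrc : r • c = c := commute_fix hu hs₀.1 (hRs₀ r hr) hs₀.2
    have hrt : Commute r t := mem_centralizer_singleton_iff.1 (hRD hr).2
    have h1 := huniq _ ⟨hi, his⟩
    have h2 := huniq (r * i * r⁻¹) ⟨conj_mem_invMap_pair (mem_pairStab.2 ⟨hRe r hr, hrc⟩) hi, by
      calc r * i * r⁻¹ * t * (r * i * r⁻¹)⁻¹ = r * i * (r⁻¹ * t * r) * i⁻¹ * r⁻¹ := by group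
        _ = r * (i * t * i⁻¹) * r⁻¹ := by
            rw [show r⁻¹ * t * r = t by rw [mul_assoc, ← hrt.eq, inv_mul_cancel_left]]; group
        _ = s₀ := by rw [his, (hRs₀ r hr).eq]; group⟩
    exact mul_inv_eq_iff_eq_mul.1 (h2.trans h1.symm)
  obtain ⟨k, hke, hkc⟩ := h.two_transitive hc.symm hez
  -- move `R` back to itself
  have hkD : ∀ r ∈ R, k * r * k⁻¹ ∈ D := fun r hr => mem_pairStab.2 ⟨by
      rw [mul_smul, mul_smul, inv_smul_eq_iff.2 hke.symm, hRe r hr, hke], by
      rw [mul_smul, mul_smul, inv_smul_eq_iff.2 hkc.symm,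
        commute_fix hu hs₀.1 (hRs₀ r hr) hs₀.2, hkc]⟩
  have hkt : k * t * k⁻¹ ∈ invMap (G := G) e e := conj_mem_invMap (show k • e = e from hke) ht
  obtain ⟨d, hd, hdt⟩ := exists_conj_fix hu hez hkt ht
  obtain ⟨d', hd', hd'R⟩ := exists_conj_of_card (K := D ⊓ centralizer ({t} : Set G))
    (hR.map (MulAut.conj (d * k)).toMonoidHom) hR (by
      rintro _ ⟨r, hr, rfl⟩
      show d * k * r * (d * k)⁻¹ ∈ _
      refine ⟨?_, mem_centralizer_singleton_iff.2 ?_⟩
      · rw [show d * k * r * (d * k)⁻¹ = d * (k * r * k⁻¹) * d⁻¹ by group]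
        exact D.mul_mem (D.mul_mem hd (hkD r hr)) (D.inv_mem hd)
      · have hrt : Commute r t := mem_centralizer_singleton_iff.1 (hRD hr).2
        have e1 : t = (d * k) * t * (d * k)⁻¹ := by
          calc t = d * (k * t * k⁻¹) * d⁻¹ := hdt.symm
            _ = _ := by group
        calc d * k * r * (d * k)⁻¹ * t = d * k * r * (d * k)⁻¹ * ((d * k) * t * (d * k)⁻¹) := by
              rw [← e1]
          _ = d * k * (r * t) * (d * k)⁻¹ := by group
          _ = ((d * k) * t * (d * k)⁻¹) * (d * k * r * (d * k)⁻¹) := by rw [hrt.eq]; group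
          _ = t * (d * k * r * (d * k)⁻¹) := by rw [← e1]) hRD
    (by rw [card_map_of_injective (f := (MulAut.conj (d * k)).toMonoidHom)
      (MulAut.conj (d * k)).injective]; exact hRc) hRc
  set f := d' * (d * k) with hf
  have hfR : R.map (MulAut.conj f).toMonoidHom = R := by
    refine Eq.trans ?_ hd'R
    rw [map_map]
    congr 1
    ext r
    simp [hf, mul_assoc]
  have hfe : f • e = e := by
    rw [hf, mul_smul, mul_smul, hke, (mem_pairStab.1 hd).1, (mem_pairStab.1 hd'.1).1]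
  have hfc : f • c = z := by
    rw [hf, mul_smul, mul_smul, hkc, (mem_pairStab.1 hd).2, (mem_pairStab.1 hd'.1).2]
  have hcomm : ∀ v : G, (∀ r ∈ R, Commute r v) → ∀ r ∈ Q, Commute r (f * v * f⁻¹) := by
    intro v hv r hr
    obtain ⟨r', hr', rfl⟩ := hfR.ge (hQR hr)
    show f * r' * f⁻¹ * (f * v * f⁻¹) = f * v * f⁻¹ * (f * r' * f⁻¹)
    calc f * r' * f⁻¹ * (f * v * f⁻¹) = f * (r' * v) * f⁻¹ := by group
      _ = _ := by rw [(hv r' hr').eq]; group
  refine ⟨⟨f * i * f⁻¹, ⟨by rw [orderOf_conj_eq]; exact hi.1, ?_⟩, hcomm i hRi⟩,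
    f * s₀ * f⁻¹, ⟨by rw [orderOf_conj_eq]; exact hs₀.1, ?_⟩, hcomm s₀ hRs₀⟩
  · rw [mul_smul, mul_smul, inv_smul_eq_iff.2 hfe.symm, hi.2, hfc]
  · rw [mul_smul, mul_smul, inv_smul_eq_iff.2 hfc.symm, hs₀.2, hfc]

end CfsgLib.BenderWorld
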