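import Cfsg.Agent.BenderWorld.TwoTransitive.Tools

/-!
# Route 8, step 1: Sylow `q`-subgroups fix exactly two points (`q` dividing `m`)
-/

set_option autoImplicit false

namespace CfsgLib.BenderWorld

open CfsgLib.Small CfsgLib.SEmbed Subgroup

/-- The cores of the locals with a four group are centralised by the involutions there. -/
def CoreCentral (G : Type*) [Group G] (Ω : Type*) [MulAction G Ω] : Prop :=
  ∀ M : Subgroup G, M ≠ ⊤ → ∀ a : Ω, IsR2 M a → ∀ v ∈ M, v ∈ invMap (G := G) a a →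
    ∀ o ∈ coreIn M, Commute o v

/-- `q` is an odd prime of `m`. -/
structure Good (G : Type*) [Group G] (Ω : Type*) [MulAction G Ω] (q : ℕ) : Prop where
  world : World G Ω
  noConfig : NoConfig G Ω
  core : CoreCentral G Ω
  dvd : ∃ a : Ω, q ∣ numInv G a

variable {G : Type*} [Group G] [Finite G] {Ω : Type*} [MulAction G Ω] {q : ℕ} [hq : Fact q.Prime]

theorem Good.dvd' (h : Good G Ω q) (a : Ω) : q ∣ numInv G a := by
  obtain ⟨b, hb⟩ := h.dvd
  unfold numInv at *
  rwa [card_invMap_self h.world.uf b a] at hb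

omit [Finite G] in
theorem Good.exists_ne (h : Good G Ω q) (a : Ω) : ∃ b : Ω, b ≠ a :=
  haveI := h.world.nontrivial
  _root_.exists_ne a

theorem Good.odd_q (h : Good G Ω q) : q ≠ 2 := by
  intro h2
  obtain ⟨a, ha⟩ := h.dvd
  obtain ⟨b, hb⟩ := h.exists_ne a
  obtain ⟨t, ht⟩ := h.world.uf.exists_inv a
  have h1 := odd_pairStab h.world.uf hb.symm
  rw [card_pairStab_eq h.world.uf hb.symm (Or.inr ht), Nat.odd_mul] at h1
  exact Nat.not_even_iff_odd.2 h1.1 (even_iff_two_dvd.2 (h2 ▸ ha))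

theorem Good.odd_card (h : Good G Ω q) {Q : Subgroup G} (hQ : IsPGroup q Q) : Odd (Nat.card Q) := by
  obtain ⟨n, hn⟩ := IsPGroup.iff_card.1 hQ
  rw [hn]
  exact (hq.out.odd_of_ne_two h.odd_q).pow

/-- In an odd order `q`-group of a group of permutations nothing interchanges two points. -/
theorem Good.fix_of_pair (h : Good G Ω q) {Q : Subgroup G} (hQ : IsPGroup q Q) {g : G} (hg : g ∈ Q)
    {x y : Ω} (hx : g • x = x ∨ g • x = y) (hy : g • y = x ∨ g • y = y) :
    g • x = x ∧ g • y = y := by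
  by_cases hxy : x = y
  · subst hxy; exact ⟨hx.elim id id, hy.elim id id⟩
  rcases hx with hx | hx
  · refine ⟨hx, hy.resolve_left fun hy => hxy ?_⟩
    exact (smul_left_cancel g (hy.trans hx.symm)).symm
  · exfalso
    have hyx : g • y = x := hy.resolve_right fun hy => hxy (smul_left_cancel g (hx.trans hy.symm))
    have hev : ∀ n : ℕ, g ^ (2 * n) • x = x := by
      intro n
      induction n with
      | zero => simp
      | succ n ih => rw [Nat.mul_succ, pow_add, mul_smul, pow_two, mul_smul, hx, hyx, ih]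
    obtain ⟨k, hk⟩ := (h.odd_card hQ).of_dvd_nat (orderOf_dvd_natCard (⟨g, hg⟩ : Q) : _)
    rw [orderOf_mk] at hk
    have h1 : g ^ (2 * (k + 1)) • x = x := hev (k + 1)
    rw [show 2 * (k + 1) = orderOf g + 1 by omega, pow_succ, pow_orderOf_eq_one, one_mul, hx] at h1
    exact hxy h1.symm

/-- The swapper fixing a point of the fixed set centralises it. -/
theorem Good.commute_of_moves (h : Good G Ω q) {Q : Subgroup G} {v : G} {a : Ω} (hQ : IsPGroup q Q)
    (hv : v ∈ invMap (G := G) a a) (hn : v ∈ normalizer (Q : Set G)) (hfix : a ∈ fixSet (Ω := Ω) Q)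
    (hmov : ∃ g ∈ normalizer (Q : Set G), g • a ≠ a) : ∀ r ∈ Q, Commute r v := by
  intro r hr
  by_contra hne
  exact h.noConfig q hq.out h.odd_q Q v a ⟨hQ, hv, hn, ⟨r, hr, hne⟩, hfix, hmov⟩

/-- A Sylow subgroup of a pair is not centralised by a swapper. -/
theorem Good.not_centralised (h : Good G Ω q) {T : Subgroup G} {x y : Ω} (hxy : x ≠ y)
    (hTD : T ≤ pairStab G x y)
    (hcard : Nat.card T = q ^ (Nat.card (pairStab G x y)).factorization q) {u : G}
    (hu : u ∈ invMap (G := G) x y ∨ u ∈ invMap (G := G) x x) : ¬ ∀ r ∈ T, Commute r u := by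
  intro hall
  have h1 := card_pairStab_eq h.world.uf hxy hu
  have hle : T ≤ pairStab G x y ⊓ centralizer ({u} : Set G) := le_inf hTD fun r hr =>
    mem_centralizer_singleton_iff.2 (hall r hr).eq
  have h2 := card_dvd_of_le hle
  rw [hcard] at h2
  have h3 : q ^ ((Nat.card (pairStab G x y)).factorization q + 1) ∣ Nat.card (pairStab G x y) := by
    rw [pow_succ']
    conv_rhs => rw [h1]
    exact mul_dvd_mul (h.dvd' x) h2
  have := (hq.out.pow_dvd_iff_le_factorization Nat.card_pos.ne').1 h3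
  omega

theorem Good.not_inside (h : Good G Ω q) {R : Subgroup G} {a : Ω} (hR : IsMaxPair q R a) :
    ¬ Inside R a := by
  rintro ⟨i, hiN, hi⟩
  have hu := h.world.uf
  obtain ⟨y, hya, hy⟩ := hR.exists_second
  have hyF : y ∈ fixSet (Ω := Ω) R := fun r hr => (mem_pairStab.1 (hy hr)).2
  obtain ⟨u, huN, hu'⟩ := hR.exists_swap hu hyF hya
  have hodd := (exists_fix_iff_odd hu hi.1
    (fun x hx => smul_mem_fixSet hiN hx)).1 ⟨a, hR.mem_fixSet, hi.2⟩
  obtain ⟨z, hz, huz⟩ := (exists_fix_iff_odd hu hu'.1 (fun x hx => smul_mem_fixSet huN hx)).2 hodd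
  have hmov : ∃ g ∈ normalizer (R : Set G), g • z ≠ z := by
    by_contra hall
    push Not at hall
    obtain ⟨g, hg, hga⟩ := hR.exists_smul_eq hu hz
    have : a = z := smul_left_cancel g (hga.trans (hall g hg).symm)
    subst this
    exact hya (hu'.2.symm.trans huz)
  refine h.not_centralised hya.symm hy ?_ (Or.inl hu') (h.commute_of_moves hR.isPGroup ⟨hu'.1, huz⟩ huN hz hmov)
  exact card_eq_of_maximal hy hR.isPGroup fun R' hR' hle hRR' => hR.max R' hR' y hya hle hRR'

theorem Good.fix_pair_of_max (h : Good G Ω q) {R : Subgroup G} {a : Ω} (hR : IsMaxPair q R a) :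
    ∃ b, b ≠ a ∧ fixSet (Ω := Ω) R = {a, b} ∧ ∀ P : Subgroup G, IsPGroup q P → R ≤ P → P = R := by
  obtain ⟨b, hb, hF, -⟩ := hR.outside h.world.uf h.odd_q (h.not_inside hR)
  refine ⟨b, hb, hF, fun P hP hRP => ?_⟩
  by_contra hne
  obtain ⟨x, hxP, hxN, hxR⟩ := exists_normalizer_not_mem hP hRP (Ne.symm hne)
  have hmem : ∀ z : Ω, z ∈ fixSet (Ω := Ω) R → x • z = a ∨ x • z = b := fun z hz => by
    have := smul_mem_fixSet hxN hz
    rwa [hF] at this
  have hfix := h.fix_of_pair hP hxP (hmem a (hF.ge (Or.inl rfl))) (hmem b (hF.ge (Or.inr rfl)))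
  have hle : R ⊔ zpowers x ≤ pairStab G a b :=
    sup_le (le_pairStab_of_mem (hF.ge (Or.inl rfl)) (hF.ge (Or.inr rfl)))
      (zpowers_le.2 (mem_pairStab.2 hfix))
  have := hR.max _ (hP.to_le (sup_le hRP (zpowers_le.2 hxP))) b hb hle le_sup_left
  exact hxR (this ▸ mem_sup_right (mem_zpowers x))

/-- A Sylow `q`-subgroup of `G` fixes exactly two points. -/
theorem Good.sylow_fix (h : Good G Ω q) (P : Sylow q G) :
    ∃ a b : Ω, a ≠ b ∧ fixSet (Ω := Ω) (P : Subgroup G) = {a, b} := by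
  have hu := h.world.uf
  haveI := h.world.nontrivial
  obtain ⟨a⟩ := (inferInstance : Nonempty Ω)
  obtain ⟨y, hy⟩ := h.exists_ne a
  obtain ⟨R, -, hR⟩ := exists_isMaxPair (p := q) (P := (⊥ : Subgroup G)) IsPGroup.of_bot hy bot_le
  obtain ⟨b, hb, hF, hmax⟩ := h.fix_pair_of_max hR
  obtain ⟨P₀, hP₀⟩ := hR.isPGroup.exists_le_sylow
  obtain ⟨g, hg⟩ := MulAction.exists_smul_eq G P₀ P
  have hP : (P : Subgroup G) = R.map (MulAut.conj g).toMonoidHom := by
    rw [← hg, Sylow.coe_subgroup_smul, hmax _ P₀.2 hP₀]; rfl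
  have key : ∀ x : Ω, x ∈ fixSet (Ω := Ω) (P : Subgroup G) ↔ g⁻¹ • x ∈ fixSet (Ω := Ω) R := by
    intro x
    constructor
    · intro hx r hr
      have := hx (g * r * g⁻¹) (hP.ge (mem_map_of_mem _ hr))
      rw [mul_smul, mul_smul] at this
      exact eq_inv_smul_iff.2 this
    · intro hx p hp
      obtain ⟨r, hr, rfl⟩ := hP.le hp
      show (g * r * g⁻¹) • x = x
      rw [mul_smul, mul_smul, hx r hr, smul_inv_smul]
  refine ⟨g • a, g • b, fun e => hb (smul_left_cancel g e).symm, ?_⟩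
  ext x
  rw [key, hF]
  simp [inv_smul_eq_iff]

/-- `n = 2 mod q`, so every `q`-group fixes two points. -/
theorem Good.exists_two_fixed (h : Good G Ω q) {Q : Subgroup G} (hQ : IsPGroup q Q) :
    ∃ x y : Ω, x ≠ y ∧ x ∈ fixSet (Ω := Ω) Q ∧ y ∈ fixSet (Ω := Ω) Q := by
  obtain ⟨P, hP⟩ := hQ.exists_le_sylow
  obtain ⟨a, b, hab, hF⟩ := h.sylow_fix P
  exact ⟨a, b, hab, fun r hr => hF.ge (Or.inl rfl) r (hP hr), fun r hr => hF.ge (Or.inr rfl) r (hP hr)⟩

/-- A `q`-group fixing exactly two points is full: every `q`-group above it fixes them too. -/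
theorem Good.fixes_of_two (h : Good G Ω q) {T P : Subgroup G} {x y : Ω}
    (hT : fixSet (Ω := Ω) T = {x, y}) (hP : IsPGroup q P) (hTP : T ≤ P) :
    fixSet (Ω := Ω) P = {x, y} := by
  obtain ⟨a, b, hab, haP, hbP⟩ := h.exists_two_fixed hP
  have ha : a ∈ fixSet (Ω := Ω) T := fun r hr => haP r (hTP hr)
  have hb : b ∈ fixSet (Ω := Ω) T := fun r hr => hbP r (hTP hr)
  refine Set.Subset.antisymm (fun z hz => hT ▸ (fun r hr => hz r (hTP hr))) ?_
  rw [hT] at ha hb
  rintro z (rfl | rfl) <;> rcases ha with rfl | rfl <;> rcases hb with rfl | rfl <;>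
    first | exact haP | exact hbP | exact absurd rfl hab

end CfsgLib.BenderWorld
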